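import Groth.Agent.DRingTorAmp.PCModules
import Groth.Agent.DRingKProj.PCIff

/-!
# Pseudo-coherence over coherent rings
-/

universe u

open CategoryTheory Limits Pretriangulated

namespace Groth.Agent.DRingAmp

attribute [local instance] HasDerivedCategory.standard

set_option linter.style.haveILetI false

open Groth.Agent.DRingTorAmp

variable {R : Type u} [CommRing R] (hR : ∀ I : Ideal R, I.FG → Module.FinitePresentation R I)

include hR in
theorem fp_of_fg_pi : ∀ (n : ℕ) (N : Submodule R (Fin n → R)), N.FG → Module.FinitePresentation R N
  | 0, N, hN => by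
    haveI : Module.Finite R N := Module.Finite.iff_fg.2 hN
    exact Module.finitePresentation_of_projective R N
  | n + 1, N, hN => by
    haveI : Module.Finite R N := Module.Finite.iff_fg.2 hN
    let π : N →ₗ[R] R := LinearMap.proj 0 ∘ₗ N.subtype
    haveI : Module.FinitePresentation R (LinearMap.range π) :=
      hR _ (Module.Finite.iff_fg.1 (Module.Finite.range π))
    have hker : (LinearMap.ker π).FG := by
      rw [← LinearMap.ker_rangeRestrict π]
      exact Module.FinitePresentation.fg_ker _ π.surjective_rangeRestrict
    haveI : Module.Finite R (LinearMap.ker π) := Module.Finite.iff_fg.2 hker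
    let t : LinearMap.ker π →ₗ[R] (Fin n → R) := LinearMap.funLeft R R Fin.succ ∘ₗ N.subtype ∘ₗ (LinearMap.ker π).subtype
    have ht : Function.Injective t := fun x y h => by
      refine Subtype.ext (Subtype.ext (funext fun i => ?_))
      induction i using Fin.cases with
      | zero => exact (show π x.1 = 0 from x.2).trans (show π y.1 = 0 from y.2).symm
      | succ i => exact congrFun h i
    haveI : Module.FinitePresentation R (LinearMap.range t) :=
      fp_of_fg_pi n _ (Module.Finite.iff_fg.1 (Module.Finite.range t))
    haveI : Module.FinitePresentation R (LinearMap.ker π) :=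
      Module.FinitePresentation.of_equiv (M := LinearMap.range t) (N := LinearMap.ker π) (LinearEquiv.ofInjective t ht).symm
    haveI : Module.FinitePresentation R (LinearMap.ker π.rangeRestrict) := by
      rw [LinearMap.ker_rangeRestrict]; infer_instance
    exact Module.finitePresentation_of_ker π.rangeRestrict π.surjective_rangeRestrict

include hR in
theorem fp_of_fg {M : Type u} [AddCommGroup M] [Module R M] [Module.FinitePresentation R M] (N : Submodule R M)
    (hN : N.FG) : Module.FinitePresentation R N := by
  obtain ⟨n, K, e, hK⟩ := Module.FinitePresentation.exists_fin R M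
  let q : (Fin n → R) →ₗ[R] M := e.symm.toLinearMap ∘ₗ K.mkQ
  have hq : Function.Surjective q := e.symm.surjective.comp K.mkQ_surjective
  have hqk : (LinearMap.ker q).FG := by
    rw [LinearMap.ker_comp, LinearEquiv.ker, Submodule.comap_bot, Submodule.ker_mkQ]
    exact hK
  have hN' : (N.comap q).FG := by
    refine Submodule.fg_of_fg_map_of_fg_inf_ker q ?_ ?_
    · rwa [Submodule.map_comap_eq_of_surjective hq]
    · rw [inf_eq_right.2 (LinearMap.ker_le_comap q)]
      · exact hqk
  haveI := fp_of_fg_pi hR n _ hN'
  let r : N.comap q →ₗ[R] N := q.restrict fun x hx => hx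
  refine Module.finitePresentation_of_surjective r (fun y => ?_) ?_
  · obtain ⟨x, hx⟩ := hq y.1
    exact ⟨⟨x, show q x ∈ N from hx ▸ y.2⟩, Subtype.ext hx⟩
  · have : LinearMap.ker r = (LinearMap.ker q).comap (N.comap q).subtype := by
      ext x
      exact ⟨fun h => congrArg Subtype.val h, fun h => Subtype.ext h⟩
    rw [this]
    exact Submodule.fg_of_fg_map_injective _ (Submodule.injective_subtype _) (by
      rw [Submodule.map_comap_eq, Submodule.range_subtype, inf_eq_right.2 (LinearMap.ker_le_comap q)]
      · exact hqk)

include hR in
theorem fp_ker {M N : Type u} [AddCommGroup M] [Module R M] [Module.FinitePresentation R M] [AddCommGroup N]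
    [Module R N] [Module.FinitePresentation R N] (f : M →ₗ[R] N) :
    Module.FinitePresentation R (LinearMap.ker f) := by
  refine fp_of_fg hR _ ?_
  haveI := fp_of_fg hR (LinearMap.range f) (Module.Finite.iff_fg.1 (Module.Finite.range f))
  rw [← LinearMap.ker_rangeRestrict f]
  exact Module.FinitePresentation.fg_ker _ f.surjective_rangeRestrict

theorem pc_free (n : ℕ) (m : ℤ) : DRing.IsPseudoCoherentModule R m (Fin n → R) := by
  let W := ModuleCat.of R (Fin n → R)
  refine DRingKProj.isPseudoCoherent_of_iso (inDIso (Fin n → R)).symm (DRingKProj.isPseudoCoherent_toD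
    (a := 0) (b := 0) (fun i hi => HomologicalComplex.isZero_single_obj_X (ComplexShape.up ℤ) 0 W i (by omega))
    (fun i => ?_) m)
  by_cases hi : i = 0
  · subst hi
    let ei := (HomologicalComplex.singleObjXSelf (ComplexShape.up ℤ) 0 W).toLinearEquiv
    exact ⟨Module.Finite.equiv ei.symm, Module.Free.of_equiv ei.symm⟩
  · haveI := ModuleCat.subsingleton_of_isZero (HomologicalComplex.isZero_single_obj_X (ComplexShape.up ℤ) 0 W i hi)
    exact ⟨inferInstance, inferInstance⟩

include hR in
theorem pc_of_fp : ∀ (k : ℕ) (M : Type u) [AddCommGroup M] [Module R M], Module.FinitePresentation R M →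
    DRing.IsPseudoCoherentModule R (1 - k) M
  | 0, M, _, _, _ => isPseudoCoherent_of_vanishGE fun i hi => vanishGE_inD M i (by omega)
  | k + 1, M, _, _, hM => by
    haveI := hM
    obtain ⟨n, m', f, g, hf, hfg⟩ := Module.FinitePresentation.exists_fin' R M
    haveI : Module.FinitePresentation R (Fin n → R) := Module.finitePresentation_of_projective R _
    haveI := fp_ker hR f
    have ih := pc_of_fp k (LinearMap.ker f) inferInstance
    let S : ShortComplex (ModuleCat.{u} R) := ShortComplex.mk (ModuleCat.ofHom (LinearMap.ker f).subtype)
      (ModuleCat.ofHom f) (ModuleCat.hom_ext (LinearMap.ext fun x => x.2))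
    have hS : S.ShortExact :=
      { exact := (ShortComplex.ShortExact.moduleCat_exact_iff_function_exact S).2 (LinearMap.exact_subtype_ker_map f)
        mono_f := (ModuleCat.mono_iff_injective _).2 (Submodule.injective_subtype _)
        epi_g := (ModuleCat.epi_iff_surjective _).2 hf }
    exact DRingKProj.isPseudoCoherent_obj₃ hS.singleTriangle hS.singleTriangle_distinguished (1 - (k + 1 : ℕ))
      (DRingKProj.isPseudoCoherent_mono (by push_cast; omega) ih) (pc_free n _)

include hR in
theorem isPseudoCoherentModule_of_fp (M : Type u) [AddCommGroup M] [Module R M] [Module.FinitePresentation R M]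
    (m : ℤ) : DRing.IsPseudoCoherentModule R m M := by
  exact DRingKProj.isPseudoCoherent_mono (show 1 - ((1 - m).toNat : ℤ) ≤ m by omega)
    (pc_of_fp hR _ M inferInstance)

include hR in
theorem finitePresentation_homology {m : ℤ} {K : Dual.D R} (hK : DRing.IsPseudoCoherent R m K) :
    Module.Finite R (Dual.HD R K m) ∧ ∀ i, m < i → Module.FinitePresentation R (Dual.HD R K i) := by
  obtain ⟨E, a, b, α, -, hE, hiso, hepi⟩ := hK
  have key : ∀ i, Module.FinitePresentation R
      ((DerivedCategory.homologyFunctor (ModuleCat.{u} R) i).obj (DRing.toD E)) := by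
    intro i
    let S := E.sc' (i - 1) i (i + 1)
    haveI : Module.Finite R S.X₁ := (hE (i - 1)).1
    haveI : Module.FinitePresentation R S.X₂ := by
      haveI : Module.Finite R S.X₂ := (hE i).1
      haveI : Module.Free R S.X₂ := (hE i).2
      exact Module.finitePresentation_of_projective R _
    haveI : Module.FinitePresentation R S.X₃ := by
      haveI : Module.Finite R S.X₃ := (hE (i + 1)).1
      haveI : Module.Free R S.X₃ := (hE (i + 1)).2
      exact Module.finitePresentation_of_projective R _
    haveI := fp_ker hR S.g.hom
    have hq : Module.FinitePresentation R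
        (LinearMap.ker S.g.hom ⧸ LinearMap.range S.moduleCatToCycles) :=
      Module.finitePresentation_of_surjective (LinearMap.range S.moduleCatToCycles).mkQ (Submodule.mkQ_surjective _) (by
        rw [Submodule.ker_mkQ]
        exact Module.Finite.iff_fg.1 (Module.Finite.range _))
    haveI : Module.FinitePresentation R S.moduleCatLeftHomologyData.H := hq
    exact Module.FinitePresentation.of_equiv
      (((DerivedCategory.homologyFunctorFactors (ModuleCat.{u} R) i).app E ≪≫
        E.homologyIsoSc' (i - 1) i (i + 1) (by simp) (by simp) ≪≫
        S.moduleCatHomologyIso).toLinearEquiv).symm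
  refine ⟨?_, fun i hi => ?_⟩
  · haveI := key m
    exact Module.Finite.of_surjective ((DerivedCategory.homologyFunctor (ModuleCat.{u} R) m).map α).hom
      ((ModuleCat.epi_iff_surjective _).1 hepi)
  · haveI := key i
    haveI := hiso i hi
    exact Module.FinitePresentation.of_equiv
      (asIso ((DerivedCategory.homologyFunctor (ModuleCat.{u} R) i).map α)).toLinearEquiv

end Groth.Agent.DRingAmp
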