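import Groth.Agent.DRingTorAmp.Devissage
import Groth.Agent.DRingTorAmp.PCModules
import Mathlib.RingTheory.Filtration

/-!
# Morphisms to shifted modules detecting cohomology
-/

universe u

open CategoryTheory Limits

namespace Groth.Agent.DRingAmp

attribute [local instance] HasDerivedCategory.standard

set_option linter.style.haveILetI false

open Groth.Agent.DRingTorAmp

variable {R : Type u} [CommRing R]

theorem mono_sandwich {A B C D : ModuleCat.{u} R} (a : A ⟶ B) (m : B ⟶ C) (b : C ⟶ D) (ha : IsIso a) (hb : IsIso b)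
    (hm : Mono m) : Mono (a ≫ m ≫ b) := inferInstance

theorem eq_zero_sandwich {A B C D : ModuleCat.{u} R} (a : A ⟶ B) (m : B ⟶ C) (b : C ⟶ D) (ha : IsIso a) (hb : IsIso b)
    (h : a ≫ m ≫ b = 0) : m = 0 := by
  rwa [Preadditive.IsIso.comp_left_eq_zero, Preadditive.IsIso.comp_right_eq_zero] at h

theorem injective_homologyMap_iff' {E F : DRing.Cx R} (g : E ⟶ F) {i j k : ℤ} (hi : (ComplexShape.up ℤ).prev j = i)
    (hk : (ComplexShape.up ℤ).next j = k) :
    Function.Injective (HomologicalComplex.homologyMap g j) ↔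
      ∀ x, E.d j k x = 0 → (∃ w, g.f j x = F.d i j w) → ∃ w, x = E.d i j w := by
  subst hi hk
  exact FlatComplex.homologyMap_injective_iff _

theorem exists_shift_map {K : Dual.D R} {E : DRing.Cx R} (e : DRing.toD E ≅ K) (i : ℤ) {C : ModuleCat.{u} R}
    (q : E.X i ⟶ C) (hq : E.d (i - 1) i ≫ q = 0) :
    ∃ f : K ⟶ (shiftFunctor (Dual.D R) (-i)).obj ((DerivedCategory.singleFunctor (ModuleCat.{u} R) 0).obj C),
      ((∀ x, E.d i (i + 1) x = 0 → q x = 0 → ∃ w, x = E.d (i - 1) i w) →
        Mono ((DerivedCategory.homologyFunctor (ModuleCat.{u} R) i).map f)) ∧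
      ((DerivedCategory.homologyFunctor (ModuleCat.{u} R) i).map f = 0 → ∀ x, E.d i (i + 1) x = 0 → q x = 0) := by
  let g : E ⟶ (HomologicalComplex.single (ModuleCat.{u} R) (ComplexShape.up ℤ) i).obj C :=
    HomologicalComplex.mkHomToSingle q fun j hj => by
      obtain rfl : j = i - 1 := by simp at hj; omega
      exact hq
  let H := DerivedCategory.homologyFunctor (ModuleCat.{u} R) i
  let c := (singleQIso i C).symm ≪≫ (DerCat.singleShiftIso i C).symm
  refine ⟨e.inv ≫ DerivedCategory.Q.map g ≫ c.hom, ?_⟩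
  have hH : H.map (e.inv ≫ DerivedCategory.Q.map g ≫ c.hom) =
      (H.map e.inv ≫ (DerivedCategory.homologyFunctorFactors (ModuleCat.{u} R) i).hom.app E) ≫
        HomologicalComplex.homologyMap g i ≫
        ((DerivedCategory.homologyFunctorFactors (ModuleCat.{u} R) i).inv.app _ ≫ H.map c.hom) := by
    have hn : H.map (DerivedCategory.Q.map g) =
        (DerivedCategory.homologyFunctorFactors (ModuleCat.{u} R) i).hom.app E ≫
          HomologicalComplex.homologyMap g i ≫
            (DerivedCategory.homologyFunctorFactors (ModuleCat.{u} R) i).inv.app _ :=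
      (NatIso.naturality_2 (DerivedCategory.homologyFunctorFactors (ModuleCat.{u} R) i) g).symm
    rw [H.map_comp, H.map_comp, hn]
    simp only [Category.assoc]
  have hgx : ∀ x, g.f i x = (HomologicalComplex.singleObjXSelf (ComplexShape.up ℤ) i C).inv (q x) := fun x =>
    LinearMap.congr_fun (congrArg ModuleCat.Hom.hom (HomologicalComplex.mkHomToSingle_f (K := E) q (fun j hj => by
      obtain rfl : j = i - 1 := by simp at hj; omega
      exact hq))) x
  have hzero : ∀ x (w : ((HomologicalComplex.single (ModuleCat.{u} R) (ComplexShape.up ℤ) i).obj C).X (i - 1)),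
      g.f i x = ((HomologicalComplex.single (ModuleCat.{u} R) (ComplexShape.up ℤ) i).obj C).d (i - 1) i w → q x = 0 := by
    intro x w hw
    rw [HomologicalComplex.single_obj_d, hgx] at hw
    have := congrArg (HomologicalComplex.singleObjXSelf (ComplexShape.up ℤ) i C).hom hw
    simpa using this
  rw [hH]
  have ha : IsIso (H.map e.inv ≫ (DerivedCategory.homologyFunctorFactors (ModuleCat.{u} R) i).hom.app E) := inferInstance
  have hb : IsIso ((DerivedCategory.homologyFunctorFactors (ModuleCat.{u} R) i).inv.app _ ≫ H.map c.hom) :=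
    inferInstance
  constructor
  · intro h
    haveI : Mono (HomologicalComplex.homologyMap g i) := (ModuleCat.mono_iff_injective _).2
      ((injective_homologyMap_iff' g (show (ComplexShape.up ℤ).prev i = i - 1 by simp)
        (show (ComplexShape.up ℤ).next i = i + 1 by simp)).2 fun x hx ⟨w, hw⟩ => h x hx (hzero x w hw))
    exact mono_sandwich _ _ _ ha hb this
  · intro h x hx
    replace h := eq_zero_sandwich _ _ _ ha hb h
    have key : ∀ {a b : ℤ} (_ : (ComplexShape.up ℤ).prev i = a) (_ : (ComplexShape.up ℤ).next i = b),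
        E.d i b x = 0 → ∃ w, g.f i x =
          ((HomologicalComplex.single (ModuleCat.{u} R) (ComplexShape.up ℤ) i).obj C).d a i w := by
      intro a b ha hb hx
      subst ha hb
      obtain ⟨hx', e'⟩ := FlatComplex.homologyMap_cls
        ((HomologicalComplex.shortComplexFunctor (ModuleCat.{u} R) (ComplexShape.up ℤ) i).map g) x hx
      have h0 : FlatComplex.cls _ _ hx' = 0 := by
        rw [← e']
        exact congrArg (fun t => t.hom (FlatComplex.cls _ x hx)) h
      have hz : FlatComplex.cls (((HomologicalComplex.single (ModuleCat.{u} R) (ComplexShape.up ℤ) i).obj C).sc i)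
          0 (map_zero _) = 0 := by
        exact (congrArg _ (map_zero (((HomologicalComplex.single (ModuleCat.{u} R) (ComplexShape.up ℤ) i).obj C).sc i).moduleCatCyclesIso.inv.hom)).trans
          (map_zero _)
      obtain ⟨w, hw⟩ := (FlatComplex.cls_eq_cls_iff _ _ hx' (map_zero _)).1 (h0.trans hz.symm)
      exact ⟨w, (sub_zero _).symm.trans hw⟩
    obtain ⟨w, hw⟩ := key (show (ComplexShape.up ℤ).prev i = i - 1 by simp)
      (show (ComplexShape.up ℤ).next i = i + 1 by simp) hx
    exact hzero x w hw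

theorem exists_mono_hom_fp (K : Dual.D R) (hK : DRing.IsPseudoCoherent' R K) (i : ℤ) :
    ∃ (M : Type u) (_ : AddCommGroup M) (_ : Module R M) (_ : Module.FinitePresentation R M)
      (f : K ⟶ (shiftFunctor (Dual.D R) (-i)).obj (Dual.inD R M)),
      Mono ((DerivedCategory.homologyFunctor (ModuleCat.{u} R) i).map f) := by
  obtain ⟨E, b, -, hE, ⟨e⟩⟩ := hK
  let C := E.X i ⧸ LinearMap.range (E.d (i - 1) i).hom
  haveI := (hE i).1
  haveI := (hE i).2
  haveI := (hE (i - 1)).1
  haveI : Module.FinitePresentation R (E.X i) := Module.finitePresentation_of_projective R _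
  haveI : Module.FinitePresentation R C := Module.finitePresentation_of_surjective (Submodule.mkQ _)
    (Submodule.mkQ_surjective _) (by
      rw [Submodule.ker_mkQ, ← Submodule.map_top (E.d (i - 1) i).hom]
      exact Module.Finite.fg_top.map _)
  obtain ⟨f, hf, -⟩ := exists_shift_map e i (C := ModuleCat.of R C) (ModuleCat.ofHom (Submodule.mkQ _))
    (ModuleCat.hom_ext (LinearMap.ext fun w => (Submodule.Quotient.mk_eq_zero _).2 ⟨w, rfl⟩))
  refine ⟨C, inferInstance, inferInstance, inferInstance, f, hf fun x _ hx => ?_⟩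
  obtain ⟨w, hw⟩ := (Submodule.Quotient.mk_eq_zero _).1 hx
  exact ⟨w, hw.symm⟩

theorem exists_hom_torsion [IsNoetherianRing R] (K : Dual.D R)
    (hb : ∃ b : ℤ, ∀ j : ℤ, b < j → Subsingleton (Dual.HD R K j))
    (hfin : ∀ j : ℤ, Module.Finite R (Dual.HD R K j)) (m : Ideal R) (i : ℤ)
    (hi : m • (⊤ : Submodule R (Dual.HD R K i)) ≠ ⊤) :
    ∃ (E : Type u) (_ : AddCommGroup E) (_ : Module R E) (_ : Module.Finite R E) (n : ℕ)
      (_ : m ^ n • (⊤ : Submodule R E) = ⊥) (f : K ⟶ (shiftFunctor (Dual.D R) (-i)).obj (Dual.inD R E)),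
      (DerivedCategory.homologyFunctor (ModuleCat.{u} R) i).map f ≠ 0 := by
  classical
  obtain ⟨b, hb⟩ := hb
  have hv : ∀ j, b + 1 ≤ j → IsZero ((DerivedCategory.homologyFunctor (ModuleCat.{u} R) j).obj K) :=
    fun j hj => (isZero_HD_iff K j).2 (hb j (by omega))
  have hpc : DRing.IsPseudoCoherent' R K := DRingKProj.pseudoCoherent'_of_forall fun l =>
    isPseudoCoherent_of_finite l (b + 1 - l).toNat K (fun j hj => hv j (by omega)) fun j _ => hfin j
  obtain ⟨E, b', -, hE, ⟨e⟩⟩ := hpc
  haveI := (hE i).1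
  let C := E.X i ⧸ LinearMap.range (E.d (i - 1) i).hom
  haveI : Module.Finite R C := inferInstance
  by_contra hne
  push Not at hne
  have hall : ∀ (n : ℕ) (x : E.X i), E.d i (i + 1) x = 0 →
      (Submodule.Quotient.mk x : C) ∈ (m ^ n • ⊤ : Submodule R C) := by
    intro n x hx
    let N : Submodule R C := m ^ n • ⊤
    let q : E.X i ⟶ ModuleCat.of R (C ⧸ N) :=
      ModuleCat.ofHom (N.mkQ ∘ₗ (LinearMap.range (E.d (i - 1) i).hom).mkQ)
    obtain ⟨f, -, hf⟩ := exists_shift_map e i q (ModuleCat.hom_ext (LinearMap.ext fun w =>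
      (congrArg N.mkQ ((Submodule.Quotient.mk_eq_zero _).2 ⟨w, rfl⟩)).trans (map_zero _)))
    have hkill : m ^ n • (⊤ : Submodule R (C ⧸ N)) = ⊥ := by
      have h1 := Submodule.map_smul'' (m ^ n) (⊤ : Submodule R C) N.mkQ
      rw [Submodule.map_top, Submodule.range_mkQ] at h1
      rw [← h1]
      exact N.mkQ_map_self
    exact (Submodule.Quotient.mk_eq_zero N).1
      (hf (hne (C ⧸ N) inferInstance inferInstance inferInstance n hkill f) x hx)
  let i₀ := (DerivedCategory.homologyFunctor (ModuleCat.{u} R) i).mapIso e.symm ≪≫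
    (DerivedCategory.homologyFunctorFactors (ModuleCat.{u} R) i).app E ≪≫
    E.homologyIsoSc' (i - 1) i (i + 1) (by simp) (by simp)
  apply hi
  refine top_le_iff.1 fun h _ => ?_
  obtain ⟨x, hx, hxh⟩ := FlatComplex.cls_surjective (i₀.hom h)
  obtain ⟨r, hr⟩ := (m.mem_iInf_smul_pow_eq_bot_iff (Submodule.Quotient.mk x : C)).1
    ((Submodule.mem_iInf _).2 fun n => hall n x hx)
  obtain ⟨w, hw⟩ := (Submodule.Quotient.eq (LinearMap.range (E.d (i - 1) i).hom) (x := (r : R) • x) (y := x)).1 hr
  have hcls : (r : R) • i₀.hom h = i₀.hom h := by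
    rw [← hxh]
    refine Eq.trans ((congrArg _ (map_smul (E.sc' (i - 1) i (i + 1)).moduleCatCyclesIso.inv.hom (r : R) ⟨x, hx⟩)).trans
      (map_smul (E.sc' (i - 1) i (i + 1)).homologyπ.hom (r : R) _)).symm ?_
    exact (FlatComplex.cls_eq_cls_iff (S := E.sc' (i - 1) i (i + 1)) ((r : R) • x) x
      (by rw [map_smul, hx, smul_zero]) hx).2 ⟨w, hw.symm⟩
  have : (r : R) • h = h := i₀.toLinearEquiv.injective ((map_smul i₀.toLinearEquiv _ _).trans hcls)
  rw [← this]
  exact Submodule.smul_mem_smul r.2 trivial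

end Groth.Agent.DRingAmp
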