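import Groth.Agent.DRingAmp.Nilpotent
import Mathlib.RingTheory.FiniteLength

/-!
# Derived tensor products with modules of finite length
-/

universe u

open CategoryTheory Limits MonoidalCategory HomologicalComplex
open scoped TensorProduct

namespace Groth.Agent.DRingAmp

attribute [local instance] HasDerivedCategory.standard

set_option linter.style.haveILetI false

open Groth.Agent.DRingKFlat Groth.Agent.DRingTorAmp

variable {R : Type u} [CommRing R] [IsLocalRing R]

theorem exactAt_tensor_finiteLength {P : DRing.Cx R} (hflat : DRing.TermwiseFlat P) {i : ℤ}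
    (h : ((escCx (IsLocalRing.residue R)).obj P).ExactAt i) (M : Type u) [AddCommGroup M] [Module R M]
    (hM : IsFiniteLength R M) : (DRing.tensorCx P (ModuleCat.of R M)).ExactAt i := by
  have hesc : ∀ N : ModuleCat.{u} (IsLocalRing.ResidueField R),
      (DRing.tensorCx ((escCx (IsLocalRing.residue R)).obj P) N).ExactAt i := fun N => by
    rw [exact_tensor_iff _ _ (i - 1) i (i + 1) (by omega) rfl]
    rw [exact_d_iff _ (i - 1) i (i + 1) (by omega) rfl] at h
    exact Module.Flat.rTensor_exact (N : Type u) h
  induction hM with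
  | of_subsingleton =>
    rename_i M _ _ _
    exact exactAt_tensor_of_esc Ideal.Quotient.mk_surjective hesc (ModuleCat.of R M) fun a _ x =>
      Subsingleton.elim (α := M) _ _
  | of_simple_quotient hN ih =>
    rename_i M _ _ W _
    obtain ⟨w, hW⟩ := DRingComplete.tenMap_shortExact hflat (ModuleCat.ofHom W.subtype) (ModuleCat.ofHom W.mkQ)
      W.injective_subtype (LinearMap.exact_subtype_mkQ W) W.mkQ_surjective
    have h₃ := exactAt_tensor_of_esc (φ := IsLocalRing.residue R) Ideal.Quotient.mk_surjective hesc
      (ModuleCat.of R (M ⧸ W)) fun a ha x => by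
        have hmax := IsSimpleModule.annihilator_isMaximal (R := R) (M := M ⧸ W)
        rw [IsLocalRing.ker_residue, ← IsLocalRing.eq_maximalIdeal hmax] at ha
        exact Module.mem_annihilator.1 ha x
    rw [exactAt_iff_isZero_homology] at ih h₃ ⊢
    exact (hW.homology_exact₂ i).isZero_of_both_zeros (ih.eq_of_src _ _) (h₃.eq_of_tgt _ _)

theorem subsingleton_lTensor_finiteLength [DRing.HasLBaseChange (IsLocalRing.residue R)]
    [∀ M : ModuleCat.{u} R, DRing.HasLTensor R M] (P : Dual.D R) (a b : ℤ)
    (h : ∀ i : ℤ, (i < a ∨ b < i) →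
      Subsingleton (Dual.HD (IsLocalRing.ResidueField R) ((DRing.LBaseChange (IsLocalRing.residue R)).obj P) i))
    (N : Type u) [AddCommGroup N] [Module R N] (hN : IsFiniteLength R N) (i : ℤ) (hi : i < a ∨ b < i) :
    Subsingleton (Dual.HD R ((DRing.LTensor R (ModuleCat.of R N)).obj P) i) := by
  obtain ⟨F, hF, hflat, ⟨e⟩⟩ := DRingComplete.exists_flat_rep P
  obtain ⟨e'⟩ := exists_lBaseChange_iso (IsLocalRing.residue R) hF
  exact (subsingleton_lTensor_iff _ hF e i).2 (exactAt_tensor_finiteLength hflat
    ((subsingleton_HD_iff _ i).1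
      ((subsingleton_HD_congr ((DRing.LBaseChange (IsLocalRing.residue R)).mapIso e.symm ≪≫ e') i).1 (h i hi))) N hN)

end Groth.Agent.DRingAmp
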