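import Groth.Agent.DRingAmp.TensorCx
import Groth.Agent.DRingTorAmp.Restrict
import Groth.Agent.DRingComplete.Nakayama
import Groth.Agent.FlatComplex.Homology

/-!
# Tor amplitude in `[a, ∞)`
-/

universe u

open CategoryTheory Limits MonoidalCategory HomologicalComplex

namespace Groth.Agent.DRingAmp

attribute [local instance] HasDerivedCategory.standard

set_option linter.style.haveILetI false

open Groth.Agent.DRingKFlat Groth.Agent.DRingTorAmp

variable {R : Type u} [CommRing R]

/-- The kernel of the truncation. -/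
noncomputable def killCx (E : DRing.Cx R) (a : ℤ) : DRing.Cx R where
  X i := ModuleCat.of R (killSub E a i)
  d i j := ModuleCat.ofHom ((E.d i j).hom.restrict (d_mem_killSub E a i j))
  shape i j h := ModuleCat.hom_ext (LinearMap.ext fun x => Subtype.ext
    (congrArg (fun t => t.hom x.1) (E.shape i j h)))
  d_comp_d' i j k _ _ := ModuleCat.hom_ext (LinearMap.ext fun x => Subtype.ext
    (congrArg (fun t => t.hom x.1) (E.d_comp_d i j k)))

/-- Its inclusion. -/
noncomputable def killι (E : DRing.Cx R) (a : ℤ) : killCx E a ⟶ E where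
  f i := ModuleCat.ofHom (killSub E a i).subtype
  comm' _ _ _ := rfl

theorem isKFl_cut {E : DRing.Cx R} {a : ℤ} (hE : IsKFl E) (hfl : DRing.TermwiseFlat E)
    (hcut : DRing.TermwiseFlat (cut E a)) : IsKFl (cut E a) := by
  let S : ShortComplex (DRing.Cx R) := ShortComplex.mk (killι E a) (cutπ E a)
    (HomologicalComplex.hom_ext _ _ fun i => ModuleCat.hom_ext (LinearMap.ext fun x =>
      (Submodule.Quotient.mk_eq_zero _).2 x.2))
  have hS : S.ShortExact := HomologicalComplex.shortExact_of_degreewise_shortExact S fun i =>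
    { exact := (ShortComplex.ShortExact.moduleCat_exact_iff_function_exact _).2
        (LinearMap.exact_subtype_mkQ (killSub E a i))
      mono_f := (ModuleCat.mono_iff_injective _).2 (Submodule.injective_subtype _)
      epi_g := (ModuleCat.epi_iff_surjective _).2 (Submodule.mkQ_surjective _) }
  have hk : IsKFl (killCx E a) := by
    refine isKFl_of_flat (b := a) (fun i hi => ?_) fun i => ?_
    · have : Subsingleton (killSub E a i) := by
        rw [killSub, if_neg (by omega), if_neg (by omega)]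
        infer_instance
      exact ModuleCat.isZero_of_subsingleton (ModuleCat.of R (killSub E a i))
    · haveI : Module.Flat R (E.X i ⧸ killSub E a i) := hcut i
      have h := (FlatComplex.flat_ker_iff (killSub E a i).mkQ (Submodule.mkQ_surjective _)).2 (hfl i)
      rw [Submodule.ker_mkQ] at h
      exact h
  exact isKFlat₃ (S := S) hS (fun G q => mono_of_flat (S := S) hS (fun n => isFlat_iff_flat.2 (hcut n)) G q) hk hE

theorem subsingleton_lTensorCx_single_iff (K : DRing.Cx R) [DRing.HasLTensorCx R K] {P : DRing.Cx R}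
    (hP : IsKFl P) (e : DRing.toD P ≅ DRing.toD K) (M : ModuleCat.{u} R) (i : ℤ) :
    Subsingleton (Dual.HD R ((DRing.LTensorCx R K).obj
      (DRing.toD ((CochainComplex.singleFunctor (ModuleCat.{u} R) 0).obj M))) i) ↔ (DRing.tensorCx P M).ExactAt i := by
  obtain ⟨Q, π, hQ, hπ, -⟩ := DRingKProj.exists_resolution
    ((HomologicalComplex.single (ModuleCat.{u} R) (ComplexShape.up ℤ) 0).obj M)
  obtain ⟨P', ρ, hP', hρ, -⟩ := DRingKProj.exists_resolution K
  haveI := hQ
  haveI := hP'
  haveI := hπ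
  haveI := hρ
  haveI : IsIso (DerivedCategory.Q.map π) := (DerivedCategory.isIso_Q_map_iff_quasiIso _ π).2 hπ
  haveI : IsIso (DerivedCategory.Q.map ρ) := (DerivedCategory.isIso_Q_map_iff_quasiIso _ ρ).2 hρ
  obtain ⟨e'⟩ := exists_lTensorCx_iso K Q
  let e₁ : (DRing.LTensorCx R K).obj (DRing.toD ((CochainComplex.singleFunctor (ModuleCat.{u} R) 0).obj M)) ≅
      DRing.toD (tot Q K) :=
    (DRing.LTensorCx R K).mapIso (asIso (DerivedCategory.Q.map π)).symm ≪≫ e'
  rw [subsingleton_HD_congr e₁, subsingleton_HD_iff,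
    exactAt_tensor_congr hP (isKFl_of_isKProjective P') e (asIso (DerivedCategory.Q.map ρ)),
    exactAt_congr (totBraidIso Q K), ← exactAt_congr (totSingleIso P' M), exactAt_congr (totBraidIso P' _)]
  have h₁ : QuasiIso (((tCx R).flip.obj Q).map ρ) := quasiIso_tot_flip (isKFl_of_isKProjective Q) ρ
  have h₂ : QuasiIso (((tCx R).flip.obj P').map π) := quasiIso_tot_flip (isKFl_of_isKProjective P') π
  exact ((@exactAt_iff_of_quasiIsoAt _ _ _ _ _ _ _ (((tCx R).flip.obj Q).map ρ) i _ _ (h₁.quasiIsoAt i)).symm.trans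
    (exactAt_congr (totBraidIso P' Q) i)).trans
    (@exactAt_iff_of_quasiIsoAt _ _ _ _ _ _ _ (((tCx R).flip.obj P').map π) i _ _ (h₂.quasiIsoAt i))

theorem torAmp_ge_iff (a : ℤ) (K : DRing.Cx R) [DRing.HasLTensorCx R K] :
    (∀ (M : ModuleCat.{u} R) (i : ℤ), i < a →
        Subsingleton (Dual.HD R ((DRing.LTensorCx R K).obj
          (DRing.toD ((CochainComplex.singleFunctor (ModuleCat.{u} R) 0).obj M))) i)) ↔
      ∃ E : DRing.Cx R, (∀ L : DRing.Cx R, (∀ i : ℤ, IsZero (L.homology i)) → ∀ i : ℤ, IsZero ((L ⊗ E).homology i)) ∧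
        DRing.TermwiseFlat E ∧ (∀ i : ℤ, i < a → IsZero (E.X i)) ∧ Nonempty (DRing.toD E ≅ DRing.toD K) := by
  constructor
  · intro h
    obtain ⟨P, hP, hfl, ⟨e⟩⟩ := DRingComplete.exists_flat_rep (DRing.toD K)
    have hex : ∀ (M : ModuleCat.{u} R) (i : ℤ), i < a → (DRing.tensorCx P M).ExactAt i := fun M i hi =>
      (subsingleton_lTensorCx_single_iff K hP e M i).1 (h M i hi)
    haveI := quasiIso_cutπ (a := a) fun i hi => (exactAt_tensor_unit_iff P i).1 (hex _ i hi)
    haveI : IsIso (DerivedCategory.Q.map (cutπ P a)) := (DerivedCategory.isIso_Q_map_iff_quasiIso _ _).2 inferInstance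
    have hcut := cut_flat hfl (flat_coker P a (hfl a) fun M => hex M _ (by omega))
    exact ⟨cut P a, (isKFl_iff _).2 (isKFl_cut hP hfl hcut), hcut, fun i hi => cut_isZero (Or.inl hi),
      ⟨(asIso (DerivedCategory.Q.map (cutπ P a))).symm ≪≫ e⟩⟩
  · rintro ⟨E, hE, -, hEa, ⟨e⟩⟩ M i hi
    refine (subsingleton_lTensorCx_single_iff K ((isKFl_iff _).1 hE) e M i).2 ?_
    rw [(DRing.tensorCx E M).exactAt_iff' (i - 1) i (i + 1) (by simp) (by simp)]
    exact ShortComplex.exact_of_isZero_X₂ _ ((tensorRight M).map_isZero (hEa i hi))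

end Groth.Agent.DRingAmp
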