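import Groth.Agent.DRingTorAmp.Devissage
import Groth.Agent.DRingTorAmp.TorDim

/-!
# Tor amplitude over rings of finite global dimension
-/

universe u

open CategoryTheory Limits Pretriangulated

namespace Groth.Agent.DRingAmp

attribute [local instance] HasDerivedCategory.standard

variable {R : Type u} [CommRing R]

open Groth.Agent.DRingTorAmp

theorem torAmp_of_projDim [∀ M : ModuleCat.{u} R, DRing.HasLTensor R M] :
    ∀ (d : ℕ) (M : Type u) [AddCommGroup M] [Module R M], HasProjectiveDimensionLT (ModuleCat.of R M) (d + 1) →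
      DRing.HasTorAmplitudeIn R (-(d : ℤ)) 0 (Dual.inD R M)
  | 0, M, _, _, h => by
    haveI : Projective (ModuleCat.of R M) := projective_iff_hasProjectiveDimensionLT_one.2 h
    haveI : Module.Projective R M := (IsProjective.iff_projective M).2 inferInstance
    simpa using torAmp_flat (R := R) (M := M)
  | d + 1, M, _, _, h => by
    let g : (M →₀ R) →ₗ[R] M := Finsupp.linearCombination R id
    have hg : Function.Surjective g := fun m => ⟨Finsupp.single m 1, by simp [g]⟩
    let S : ShortComplex (ModuleCat.{u} R) := ShortComplex.mk (ModuleCat.ofHom (X := LinearMap.ker g) (Y := M →₀ R) (LinearMap.ker g).subtype)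
      (ModuleCat.ofHom g) (ModuleCat.hom_ext (LinearMap.ext fun x => x.2))
    have hS : S.ShortExact :=
      { exact := (ShortComplex.ShortExact.moduleCat_exact_iff_function_exact S).2 (LinearMap.exact_subtype_ker_map g)
        mono_f := (ModuleCat.mono_iff_injective _).2 (Submodule.injective_subtype _)
        epi_g := (ModuleCat.epi_iff_surjective _).2 hg }
    haveI hF : Projective S.X₂ := (IsProjective.iff_projective _).1 (inferInstanceAs (Module.Projective R (M →₀ R)))
    have hK := torAmp_of_projDim d (LinearMap.ker g) ((hS.hasProjectiveDimensionLT_X₃_iff d hF).1 h)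
    refine torAmp_obj₃ hS.singleTriangle hS.singleTriangle_distinguished ?_ ?_
    · exact hasTorAmplitudeIn_mono hK (by push_cast; omega) (by omega)
    · exact hasTorAmplitudeIn_mono (torAmp_flat (R := R) (M := M →₀ R)) (by omega) le_rfl

theorem torAmp_globalDim [∀ M : ModuleCat.{u} R, DRing.HasLTensor R M] (d : ℕ)
    (hgl : ∀ (M : Type u) [AddCommGroup M] [Module R M], HasProjectiveDimensionLT (ModuleCat.of R M) (d + 1)) :
    (∀ (M : Type u) [AddCommGroup M] [Module R M], DRing.HasTorAmplitudeIn R (-(d : ℤ)) 0 (Dual.inD R M)) ∧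
      (∀ (K : Dual.D R) (a b : ℤ), (∀ i : ℤ, (i < a ∨ b < i) → Subsingleton (Dual.HD R K i)) →
        DRing.HasTorAmplitudeIn R (a - d) b K) := by
  refine ⟨fun M _ _ => torAmp_of_projDim d M (hgl M), fun K a b hab => ?_⟩
  obtain ⟨_, _⟩ := isGE_isLE_of_bounded hab
  exact DerCat.prop_of_single (torAmpProp (a - d) b) (fun Z hZ => torAmp_of_isZero hZ _ _)
    (fun T hT => torAmp_obj₂ T hT) K a b (fun i h1 h2 => hasTorAmplitudeIn_single
      (hasTorAmplitudeIn_mono (torAmp_of_projDim d _ (hgl _)) (by omega) (by omega)))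

end Groth.Agent.DRingAmp
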