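import Groth.Agent.DRingAmp.MaxIdeal
import Groth.Agent.DRingAmp.GlobalDim
import Groth.Agent.DRingTorAmp.Restrict
import Groth.Agent.CAlgReg.GlobalDim

/-!
# Perfectness from a regular fibre
-/

universe u

open CategoryTheory Limits
open scoped TensorProduct

namespace Groth.Agent.DRingAmp

attribute [local instance] HasDerivedCategory.standard

set_option linter.style.haveILetI false

open Groth.Agent.DRingTorAmp

variable {R : Type u} [CommRing R]

theorem exactAt_esc_quot_iff (J : Ideal R) (E : DRing.Cx R) (i j k : ℤ) (hij : i + 1 = j) (hjk : j + 1 = k) :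
    ((escCx (Ideal.Quotient.mk J)).obj E).ExactAt j ↔
      ∀ x : E.X j, E.d j k x ∈ (J • ⊤ : Submodule R (E.X k)) →
        ∃ w : E.X i, x - E.d i j w ∈ (J • ⊤ : Submodule R (E.X j)) := by
  letI := (Ideal.Quotient.mk J).toAlgebra
  have hsurj : ∀ (n : ℤ) (w : (R ⧸ J) ⊗[R] E.X n), ∃ w', (1 : R ⧸ J) ⊗ₜ[R] w' = w := by
    intro n w
    induction w with
    | zero => exact ⟨0, TensorProduct.tmul_zero _ _⟩
    | tmul r y =>
      obtain ⟨r, rfl⟩ := Ideal.Quotient.mk_surjective r
      refine ⟨r • y, ?_⟩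
      rw [← TensorProduct.smul_tmul]
      show (Ideal.Quotient.mk J r * 1) ⊗ₜ[R] y = _
      rw [mul_one]
    | add a b ha hb =>
      obtain ⟨a', rfl⟩ := ha
      obtain ⟨b', rfl⟩ := hb
      exact ⟨a' + b', TensorProduct.tmul_add _ _ _⟩
  have hz : ∀ (n : ℤ) (x : E.X n),
      ((1 : R ⧸ J) ⊗ₜ[R] x : (R ⧸ J) ⊗[R] E.X n) = 0 ↔ x ∈ (J • ⊤ : Submodule R (E.X n)) := by
    intro n x
    constructor
    · intro h
      have h2 := congrArg (TensorProduct.quotTensorEquivQuotSMul (E.X n) J) h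
      rw [map_zero] at h2
      refine (Submodule.Quotient.mk_eq_zero _).1 (Eq.trans ?_ h2)
      rw [← map_one (Ideal.Quotient.mk J)]
      exact ((TensorProduct.quotTensorEquivQuotSMul_mk_tmul J 1 _).trans (by rw [one_smul])).symm
    · intro hc
      refine Submodule.smul_induction_on hc (fun r hr y _ => ?_) (fun y z hy hz => ?_)
      · rw [← TensorProduct.smul_tmul]
        show (Ideal.Quotient.mk J r * 1) ⊗ₜ[R] y = 0
        rw [Ideal.Quotient.eq_zero_iff_mem.2 hr, zero_mul, TensorProduct.zero_tmul]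
      · rw [TensorProduct.tmul_add, hy, hz, add_zero]
  rw [exact_d_iff _ i j k hij hjk]
  constructor
  · intro he x hx
    obtain ⟨w, hw⟩ := (he ((1 : R ⧸ J) ⊗ₜ[R] x : (R ⧸ J) ⊗[R] E.X j)).1 ((hz k _).2 hx)
    obtain ⟨w', rfl⟩ := hsurj i w
    refine ⟨w', (hz j _).1 ?_⟩
    rw [TensorProduct.tmul_sub, sub_eq_zero]
    exact hw.symm
  · intro h y
    obtain ⟨x, rfl⟩ := hsurj j y
    constructor
    · intro hx
      obtain ⟨w, hw⟩ := h x ((hz k _).1 hx)
      refine ⟨(1 : R ⧸ J) ⊗ₜ[R] w, ?_⟩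
      have h2 := (hz j _).2 hw
      rw [TensorProduct.tmul_sub, sub_eq_zero] at h2
      exact h2.symm
    · rintro ⟨w, hw⟩
      obtain ⟨w', rfl⟩ := hsurj i w
      rw [← hw]
      show ((1 : R ⧸ J) ⊗ₜ[R] E.d j k (E.d i j w') : (R ⧸ J) ⊗[R] E.X k) = 0
      rw [← ModuleCat.comp_apply, E.d_comp_d]
      exact TensorProduct.tmul_zero _ _

theorem isPerfect_of_regular_fibre {A B : Type u} [CommRing A] [CommRing B] [IsLocalRing A]
    [IsLocalRing B] [Algebra A B] [IsLocalHom (algebraMap A B)] [Module.Flat A B] (d : ℕ)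
    [IsRegularLocalRing (B ⧸ (IsLocalRing.maximalIdeal A).map (algebraMap A B))]
    (hd : ringKrullDim (B ⧸ (IsLocalRing.maximalIdeal A).map (algebraMap A B)) = d)
    [DRing.HasLBaseChange (IsLocalRing.residue A)] (a b : ℤ) (K : Dual.D B) (hK : DRing.IsPseudoCoherent' B K)
    (h : ∀ i : ℤ, (i < a ∨ b < i) → Subsingleton (Dual.HD (IsLocalRing.ResidueField A)
      ((DRing.LBaseChange (IsLocalRing.residue A)).obj ((DRing.restrictD (algebraMap A B)).obj K)) i)) :
    DRing.IsPerfect B K ∧ DRing.HasTorAmplitudeIn B (a - d) b K := by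
  refine isPerfect_of_maximal hK (a - d) b fun E c hc hE e m hm i hi _ => ?_
  obtain rfl := IsLocalRing.eq_maximalIdeal hm
  set J := (IsLocalRing.maximalIdeal A).map (algebraMap A B) with hJ
  have hfl : DRing.TermwiseFlat E := fun j => haveI := (hE j).2; inferInstance
  let φ := algebraMap A B
  let E' := (DRing.restrictCx φ).obj E
  have hsmul : ∀ (n : ℤ) (r : A) (x : E'.X n), r • x = (show E'.X n from (φ r • (show E.X n from x) : E.X n)) :=
    fun _ _ _ => rfl
  have hE' : DRingKFlat.IsKFl E' := isKFl_of_flat (b := c)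
    (fun j hj => (ModuleCat.restrictScalars.{u} φ).map_isZero (hc j hj)) fun j => by
      letI : Module A (E.X j) := Module.compHom (E.X j) φ
      haveI : IsScalarTower A B (E.X j) := ⟨fun r s x => by
        rw [Algebra.smul_def, mul_smul]
        rfl⟩
      haveI := hfl j
      exact Module.Flat.trans A B (E.X j)
  let eE : DRing.toD E' ≅ (DRing.restrictD φ).obj K :=
    (restrictQIso φ E).symm ≪≫ (DRing.restrictD φ).mapIso e
  obtain ⟨e'⟩ := exists_lBaseChange_iso (IsLocalRing.residue A) hE'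
  have hA : ∀ j, (j < a ∨ b < j) → ((escCx (Ideal.Quotient.mk (IsLocalRing.maximalIdeal A))).obj E').ExactAt j :=
    fun j hj => (subsingleton_HD_iff _ j).1
      ((subsingleton_HD_congr ((DRing.LBaseChange (IsLocalRing.residue A)).mapIso eE.symm ≪≫ e') j).1 (h j hj))
  have hmem : ∀ (n : ℤ) (x : E.X n), x ∈ (J • ⊤ : Submodule B (E.X n)) ↔
      (show E'.X n from x) ∈ (IsLocalRing.maximalIdeal A • ⊤ : Submodule A (E'.X n)) := by
    intro n x
    letI : Module A (E.X n) := Module.compHom (E.X n) φ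
    haveI : IsScalarTower A B (E.X n) := ⟨fun r s y => by
      rw [Algebra.smul_def, mul_smul]
      rfl⟩
    have h1 := Submodule.restrictScalars_map_smul_eq (R := B) (M := E.X n) (IsLocalRing.maximalIdeal A) ⊤
    rw [Submodule.restrictScalars_top] at h1
    exact iff_of_eq (congrArg (fun P : Submodule A (E.X n) => x ∈ P) h1)
  have hC : ∀ j, (j < a ∨ b < j) → ((escCx (Ideal.Quotient.mk J)).obj E).ExactAt j := fun j hj => by
    rw [exactAt_esc_quot_iff J E (j - 1) j (j + 1) (by omega) rfl]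
    intro x hx
    obtain ⟨w, hw⟩ := (exactAt_esc_quot_iff _ E' (j - 1) j (j + 1) (by omega) rfl).1 (hA j hj) x ((hmem _ _).1 hx)
    exact ⟨w, (hmem _ _).2 hw⟩
  haveI : ∀ M : ModuleCat.{u} (B ⧸ J), DRing.HasLTensor (B ⧸ J) M := fun M => DRingKProj.hasLTensor M
  have hamp := (torAmp_globalDim (R := B ⧸ J) d fun M _ _ => CAlgReg.pdLT_of_isRegularLocalRing hd M).2
    (DRing.toD ((escCx (Ideal.Quotient.mk J)).obj E)) a b fun j hj => (subsingleton_HD_iff _ j).2 (hC j hj)
  have hE0 : DRingKFlat.IsKFl E := isKFl_of_flat hc hfl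
  have hE'' := DCohBridge.isKFlat_baseChange (Ideal.Quotient.mk J) hE0
  have hJm : J ≤ IsLocalRing.maximalIdeal B :=
    ((IsLocalRing.local_hom_TFAE (algebraMap A B)).out 0 2).1 ‹IsLocalHom (algebraMap A B)›
  let q : (B ⧸ J) →+* B ⧸ IsLocalRing.maximalIdeal B := Ideal.Quotient.factor hJm
  haveI : DRing.HasLBaseChange q := DRingKProj.hasLBaseChange q
  obtain ⟨e''⟩ := exists_lBaseChange_iso q hE''
  have h3 := (exactAt_tensor_unit_iff _ i).1 (exactAt_of_hasTorAmplitudeIn (hasTorAmplitudeIn_lBaseChange q hamp)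
    (DCohBridge.isKFlat_baseChange q hE'') e''.symm
    (ModuleCat.of (B ⧸ IsLocalRing.maximalIdeal B) (B ⧸ IsLocalRing.maximalIdeal B)) i hi)
  rw [← Ideal.Quotient.factor_comp_mk hJm]
  exact (exactAt_congr ((NatIso.mapHomologicalComplex
    (ModuleCat.extendScalarsComp.{u} (Ideal.Quotient.mk J) q) (ComplexShape.up ℤ)).app E) i).2 h3

end Groth.Agent.DRingAmp
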