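import Groth.Agent.DRingAmp.PushBC
import Groth.Agent.DRingAmp.RegFibre

/-!
# Perfectness from fibres of finite global dimension
-/

universe u

open CategoryTheory Limits
open scoped TensorProduct

namespace Groth.Agent.DRingAmp

attribute [local instance] HasDerivedCategory.standard

set_option linter.style.haveILetI false

open Groth.Agent.DRingTorAmp

variable {A B : Type u} [CommRing A] [CommRing B] (φ : A →+* B)

theorem exactAt_closed_of_fibre {k L : Type u} [CommRing k] [CommRing L] (ψ : A →+* k) (π : B →+* L) (g : k →+* L)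
    (hg : g.comp ψ = π.comp φ) (hφ : φ.Flat) (d : ℕ)
    (hgl : letI := φ.toAlgebra; letI := ψ.toAlgebra; ∀ (M : Type u) [AddCommGroup M]
      [Module (k ⊗[A] B) M], HasProjectiveDimensionLT (ModuleCat.of (k ⊗[A] B) M) (d + 1))
    {E : DRing.Cx B} {c : ℤ} (hc : DRing.VanishesAbove E c) (hfl : DRing.TermwiseFlat E) {a b : ℤ}
    (hEa : DRing.HasTorAmplitudeIn A a b (DRing.toD ((DRing.restrictCx φ).obj E))) {i : ℤ}
    (hi : i < a - d ∨ b < i) : ((escCx π).obj E).ExactAt i := by
  letI := φ.toAlgebra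
  letI := ψ.toAlgebra
  letI := (π.comp φ).toAlgebra
  let g' : k →ₐ[A] L := { g with commutes' := fun r => RingHom.congr_fun hg r }
  let π' : B →ₐ[A] L := { π with commutes' := fun _ => rfl }
  let q : (k ⊗[A] B) →+* L :=
    (Algebra.TensorProduct.lift g' π' fun _ _ => Commute.all _ _).toRingHom
  let ρ := pushRight φ ψ
  have hq : q.comp ρ = π := RingHom.ext fun x => by
    show Algebra.TensorProduct.lift g' π' (fun _ _ => Commute.all _ _) (1 ⊗ₜ[A] x) = _
    simp [π']
  have hE' := DCohBridge.isKFlat_baseChange ρ (isKFl_of_flat hc hfl)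
  have hC : ∀ j, (j < a ∨ b < j) → ((escCx ρ).obj E).ExactAt j := fun j hj => by
    obtain ⟨Z, hZ, -, ⟨eZ⟩⟩ := hasTorAmplitudeIn_push φ ψ hφ hc hfl hEa
    have h := (subsingleton_HD_iff _ j).1 ((subsingleton_HD_congr eZ j).1 ((subsingleton_HD_iff Z j).2 (by
      rw [Z.exactAt_iff' (j - 1) j (j + 1) (by simp) (by simp)]
      exact ShortComplex.exact_of_isZero_X₂ _ (hZ j hj))))
    rw [exact_d_iff _ (j - 1) j (j + 1) (by omega) rfl] at h ⊢
    exact h
  haveI : ∀ M : ModuleCat.{u} (k ⊗[A] B), DRing.HasLTensor (k ⊗[A] B) M := fun M => DRingKProj.hasLTensor M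
  have hamp := (torAmp_globalDim (R := k ⊗[A] B) d hgl).2 (DRing.toD ((escCx ρ).obj E)) a b
    fun j hj => (subsingleton_HD_iff _ j).2 (hC j hj)
  haveI : DRing.HasLBaseChange q := DRingKProj.hasLBaseChange q
  obtain ⟨e''⟩ := exists_lBaseChange_iso q hE'
  have h3 := (exactAt_tensor_unit_iff _ i).1 (exactAt_of_hasTorAmplitudeIn (hasTorAmplitudeIn_lBaseChange q hamp)
    (DCohBridge.isKFlat_baseChange q hE') e''.symm (ModuleCat.of L L) i hi)
  rw [← hq]
  exact (exactAt_congr ((NatIso.mapHomologicalComplex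
    (ModuleCat.extendScalarsComp.{u} ρ q) (ComplexShape.up ℤ)).app E) i).2 h3

theorem exactAt_closed_of_fibre' {A B k L : Type u} [CommRing A] [CommRing B] [CommRing k] [CommRing L]
    (φ : A →+* B) (j : Algebra A k) (π : B →+* L) (g : k →+* L)
    (hg : g.comp (algebraMap A k) = π.comp φ) (hφ : φ.Flat) (d : ℕ)
    (hgl : letI := φ.toAlgebra; ∀ (M : Type u) [AddCommGroup M]
      [Module (k ⊗[A] B) M], HasProjectiveDimensionLT (ModuleCat.of (k ⊗[A] B) M) (d + 1))
    {E : DRing.Cx B} {c : ℤ} (hc : DRing.VanishesAbove E c) (hfl : DRing.TermwiseFlat E) {a b : ℤ}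
    (hEa : DRing.HasTorAmplitudeIn A a b (DRing.toD ((DRing.restrictCx φ).obj E))) {i : ℤ}
    (hi : i < a - d ∨ b < i) : ((escCx π).obj E).ExactAt i := by
  obtain ⟨ψ, rfl⟩ := exists_toAlgebra j
  exact exactAt_closed_of_fibre φ ψ π g hg hφ d hgl hc hfl hEa hi

end Groth.Agent.DRingAmp
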