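import Groth.Agent.DRingTorAmp.Change
import Groth.Prelude.Def_DRing4

/-!
# Values of the derived tensor product with a complex; tensor products of pseudo-coherent and perfect objects
-/

universe u

open CategoryTheory Limits MonoidalCategory HomologicalComplex

namespace Groth.Agent.DRingAmp

attribute [local instance] HasDerivedCategory.standard

set_option linter.style.haveILetI false

open Groth.Agent.DRingKFlat Groth.Agent.DRingTorAmp

variable {R : Type u} [CommRing R]

/-- `- ⊗ E` on the homotopy category. -/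
noncomputable def tensorKh (E : DRing.Cx R) :
    HomotopyCategory (ModuleCat.{u} R) (ComplexShape.up ℤ) ⥤ Dual.D R :=
  CategoryTheory.Quotient.lift _ (DRing.tensorCxQ R E) (by
    rintro K L f g ⟨h⟩
    exact DerivedCategory.Q_map_eq_of_homotopy (ModuleCat.{u} R)
      (mapBifunctorMapHomotopy₁ h (𝟙 E) (tB R) (ComplexShape.up ℤ)))

set_option quotPrecheck false
local notation "qh" => HomotopyCategory.quotient (ModuleCat R) (ComplexShape.up ℤ)
local notation "qisH" => HomotopyCategory.quasiIso (ModuleCat R) (ComplexShape.up ℤ)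
local notation "qisC" => HomologicalComplex.quasiIso (ModuleCat R) (ComplexShape.up ℤ)

theorem isIso_tensorKh_map (E : DRing.Cx R)
    ⦃X Y : HomotopyCategory (ModuleCat.{u} R) (ComplexShape.up ℤ)⦄ (s : X ⟶ Y)
    (hX : DRingKProj.KP R X) (hY : DRingKProj.KP R Y) (hs : qisH s) : IsIso ((tensorKh E).map s) := by
  haveI := DRingKProj.isIso_of_KP s hX hY hs
  infer_instance

/-- Derived tensor with a complex on a K-projective complex. -/
theorem exists_lTensorCx_iso (E : DRing.Cx R) [DRing.HasLTensorCx R E] (P : DRing.Cx R) [P.IsKProjective] :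
    Nonempty ((DRing.LTensorCx R E).obj (DRing.toD P) ≅ DRing.toD (tot P E)) := by
  haveI : (tensorKh E).HasLeftDerivedFunctor qisH :=
    DerCat.LeftDeriv.hasLeftDerivedFunctor _ _ (DRingKProj.KP R) DRingKProj.exists_resolution_homotopy
      (isIso_tensorKh_map E)
  let G := (tensorKh E).totalLeftDerived DerivedCategory.Qh qisH
  let ε := (tensorKh E).totalLeftDerivedCounit DerivedCategory.Qh qisH
  let c := (DRing.tensorCxQ R E).totalLeftDerivedCounit DerivedCategory.Q qisC
  let LF := DRing.LTensorCx R E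
  let iso := DerivedCategory.quotientCompQhIso (ModuleCat.{u} R)
  let α : DerivedCategory.Q ⋙ G ⟶ DRing.tensorCxQ R E :=
    { app := fun X => G.map (iso.inv.app X) ≫ ε.app ((qh).obj X)
      naturality := fun X Y f => by
        have h1 := iso.inv.naturality f
        have h2 := ε.naturality ((qh).map f)
        simp only [Functor.comp_map] at h1 h2 ⊢
        rw [← Functor.map_comp_assoc, h1, Functor.map_comp, Category.assoc, Category.assoc]
        exact congrArg (G.map (iso.inv.app X) ≫ ·) h2 }
  let β : DerivedCategory.Qh ⋙ LF ⟶ tensorKh E :=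
    CategoryTheory.Quotient.natTransLift _
      { app := fun X => LF.map (iso.hom.app X) ≫ c.app X
        naturality := fun X Y f => by
          have h1 := iso.hom.naturality f
          have h2 := c.naturality f
          simp only [Functor.comp_map] at h1 h2 ⊢
          show LF.map (DerivedCategory.Qh.map ((qh).map f)) ≫ LF.map (iso.hom.app Y) ≫ c.app Y = _
          rw [← Functor.map_comp_assoc, h1, Functor.map_comp, Category.assoc, Category.assoc]
          exact congrArg (LF.map (iso.hom.app X) ≫ ·) h2 }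
  let τ : G ⟶ LF := LF.leftDerivedLift c qisC G α
  let σ : LF ⟶ G := G.leftDerivedLift ε qisH LF β
  have hτ : ∀ X, τ.app (DerivedCategory.Q.obj X) ≫ c.app X = G.map (iso.inv.app X) ≫ ε.app ((qh).obj X) :=
    fun X => LF.leftDerived_fac_app c qisC G α X
  have hσ : ∀ X, σ.app (DerivedCategory.Qh.obj ((qh).obj X)) ≫ ε.app ((qh).obj X) = LF.map (iso.hom.app X) ≫ c.app X :=
    fun X => G.leftDerived_fac_app ε qisH LF β ((qh).obj X)
  have h1 : σ ≫ τ = 𝟙 LF := LF.leftDerived_ext c qisC _ _ _ (by
    ext X
    simp only [NatTrans.comp_app, Functor.whiskerLeft_app, NatTrans.id_app, Category.assoc]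
    rw [hτ X]
    refine (Category.assoc _ _ _).symm.trans ((congrArg (· ≫ _) (σ.naturality (iso.inv.app X)).symm).trans ?_)
    refine (Category.assoc _ _ _).trans ((congrArg (LF.map (iso.inv.app X) ≫ ·) (hσ X)).trans ?_)
    refine (Category.assoc _ _ _).symm.trans (congrArg (· ≫ c.app X) ?_)
    exact (LF.map_comp _ _).symm.trans ((congrArg LF.map (iso.inv_hom_id_app X)).trans (LF.map_id _)))
  have h2 : τ ≫ σ = 𝟙 G := G.leftDerived_ext ε qisH _ _ _ (by
    ext ⟨X⟩
    simp only [NatTrans.comp_app, Functor.whiskerLeft_app, NatTrans.id_app, Category.assoc]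
    show τ.app (DerivedCategory.Qh.obj ((qh).obj X)) ≫ σ.app (DerivedCategory.Qh.obj ((qh).obj X)) ≫
      ε.app ((qh).obj X) = _
    rw [hσ X]
    refine (Category.assoc _ _ _).symm.trans ((congrArg (· ≫ _) (τ.naturality (iso.hom.app X)).symm).trans ?_)
    refine (Category.assoc _ _ _).trans ((congrArg (G.map (iso.hom.app X) ≫ ·) (hτ X)).trans ?_)
    refine (Category.assoc _ _ _).symm.trans (congrArg (· ≫ ε.app ((qh).obj X)) ?_)
    exact (G.map_comp _ _).symm.trans ((congrArg G.map (iso.hom_inv_id_app X)).trans (G.map_id _)))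
  have hiso : IsIso (ε.app ((qh).obj P)) :=
    DerCat.LeftDeriv.isIso_counit_app DerivedCategory.Qh _ _ (DRingKProj.KP R) DRingKProj.exists_resolution_homotopy
      (isIso_tensorKh_map E) (DRingKProj.KP_quotient P)
  exact ⟨(Iso.mk σ τ h1 h2).app _ ≪≫ G.mapIso (iso.app P).symm ≪≫ @asIso _ _ _ _ (ε.app ((qh).obj P)) hiso⟩

theorem isZero_tot_X {F K : DRing.Cx R} {n : ℤ} (h : ∀ p q : ℤ, p + q = n → IsZero (F.X p) ∨ IsZero (K.X q)) :
    IsZero ((tot F K).X n) := by
  refine (IsZero.iff_id_eq_zero _).2 (mapBifunctor.hom_ext fun p q hpq => IsZero.eq_of_src ?_ _ _)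
  rcases h p q hpq with hz | hz
  · exact ((tB R).flip.obj (K.X q)).map_isZero hz
  · exact ((tB R).obj (F.X p)).map_isZero hz

theorem finite_tot_X {F K : DRing.Cx R} {n b b' : ℤ} (hF : DRing.VanishesAbove F b) (hK : DRing.VanishesAbove K b')
    (hFf : ∀ p, Module.Finite R (F.X p)) (hKf : ∀ q, Module.Finite R (K.X q)) : Module.Finite R ((tot F K).X n) := by
  let ι' : ∀ p : ℤ, ((tB R).obj (F.X p)).obj (K.X (n - p)) ⟶ (tot F K).X n := fun p =>
    ιMapBifunctor F K (tB R) (ComplexShape.up ℤ) p (n - p) n (add_sub_cancel p n)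
  let S : Submodule R ((tot F K).X n) := (Finset.Icc (n - b') b).sup fun p => LinearMap.range (ι' p).hom
  have hS : S = ⊤ := by
    have h0 : ModuleCat.ofHom S.mkQ = 0 := mapBifunctor.hom_ext fun p q hpq => by
      have hpq' : p + q = n := hpq
      obtain rfl : q = n - p := by omega
      by_cases hp : p ∈ Finset.Icc (n - b') b
      · refine Eq.trans (b := 0) ?_ comp_zero.symm
        refine ModuleCat.hom_ext (LinearMap.ext fun x => (Submodule.Quotient.mk_eq_zero S).2 ?_)
        exact Finset.le_sup (f := fun p => LinearMap.range (ι' p).hom) hp ⟨x, rfl⟩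
      · refine IsZero.eq_of_src ?_ _ _
        rw [Finset.mem_Icc] at hp
        by_cases hb : b < p
        · exact ((tB R).flip.obj (K.X (n - p))).map_isZero (hF p hb)
        · exact ((tB R).obj (F.X p)).map_isZero (hK (n - p) (by omega))
    exact eq_top_iff.2 fun x _ => (Submodule.Quotient.mk_eq_zero S).1
      (LinearMap.congr_fun (congrArg ModuleCat.Hom.hom h0) x)
  refine ⟨?_⟩
  rw [← hS]
  refine Submodule.fg_finset_sup _ _ fun p _ => ?_
  haveI := hFf p
  haveI := hKf (n - p)
  haveI : Module.Finite R (((tB R).obj (F.X p)).obj (K.X (n - p))) :=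
    inferInstanceAs (Module.Finite R (TensorProduct R (F.X p) (K.X (n - p))))
  exact Module.Finite.iff_fg.1 (Module.Finite.range _)

theorem projective_tot_X {F K : DRing.Cx R} {n : ℤ} (hF : ∀ p, Module.Projective R (F.X p))
    (hK : ∀ q, Module.Projective R (K.X q)) : Module.Projective R ((tot F K).X n) := by
  haveI : Projective ((tot F K).X n) := by
    refine ⟨fun {E X} f e _ => ?_⟩
    have hl : ∀ p q (h : ComplexShape.π (ComplexShape.up ℤ) (ComplexShape.up ℤ) (ComplexShape.up ℤ) ⟨p, q⟩ = n),
        ∃ g, g ≫ e = ιMapBifunctor F K (tB R) (ComplexShape.up ℤ) p q n h ≫ f := fun p q h => by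
      haveI := hF p
      haveI := hK q
      haveI : Module.Projective R (((tB R).obj (F.X p)).obj (K.X q)) :=
        inferInstanceAs (Module.Projective R (TensorProduct R (F.X p) (K.X q)))
      haveI : Projective (((tB R).obj (F.X p)).obj (K.X q)) := (IsProjective.iff_projective (R := R) _).1 inferInstance
      exact ⟨Projective.factorThru _ e, Projective.factorThru_comp _ _⟩
    choose g hg using hl
    exact ⟨mapBifunctorDesc g, mapBifunctor.hom_ext fun p q h => by
      exact (Category.assoc _ _ _).symm.trans ((congrArg (· ≫ e) (ι_mapBifunctorDesc g p q h)).trans (hg p q h))⟩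
  exact (IsProjective.iff_projective (R := R) _).2 inferInstance

theorem termwiseFiniteProjective_tot {F K : DRing.Cx R} {b b' : ℤ} (hF : DRing.VanishesAbove F b)
    (hK : DRing.VanishesAbove K b') (hFp : DRing.TermwiseFiniteProjective F)
    (hKp : DRing.TermwiseFiniteProjective K) : DRing.TermwiseFiniteProjective (tot F K) := fun _ =>
  ⟨finite_tot_X hF hK (fun p => (hFp p).1) (fun q => (hKp q).1),
    projective_tot_X (fun p => (hFp p).2) (fun q => (hKp q).2)⟩

theorem isKProjective_of_finiteProjective {P : DRing.Cx R} {b : ℤ} (hb : DRing.VanishesAbove P b)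
    (hp : DRing.TermwiseFiniteProjective P) : P.IsKProjective := by
  haveI : ∀ n : ℤ, Projective (P.X n) := fun n =>
    (IsProjective.iff_projective (R := R) (P.X n)).1 (hp n).2
  haveI : CochainComplex.IsStrictlyLE P b := by
    rw [CochainComplex.isStrictlyLE_iff]
    exact hb
  exact CochainComplex.isKProjective_of_projective _ b

/-- `K ⊗ᴸ L` is the total complex of bounded above projective representatives. -/
theorem exists_lTensorCx_iso_tot (L : DRing.Cx R) [DRing.HasLTensorCx R L] {P Q : DRing.Cx R} [P.IsKProjective]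
    [Q.IsKProjective] {K : Dual.D R} (eP : DRing.toD P ≅ K) (eQ : DRing.toD Q ≅ DRing.toD L) :
    Nonempty ((DRing.LTensorCx R L).obj K ≅ DRing.toD (tot P Q)) := by
  obtain ⟨e⟩ := exists_lTensorCx_iso L P
  obtain ⟨g, hg⟩ := PCExt.Q_map_surjective_of_isKProjective Q L eQ.hom
  haveI : IsIso (DerivedCategory.Q.map g) := by
    rw [show DerivedCategory.Q.map g = _ from hg]; infer_instance
  haveI : QuasiIso g := (DerivedCategory.isIso_Q_map_iff_quasiIso _ g).1 inferInstance
  have hq := quasiIso_tot_flip (isKFl_of_isKProjective P) g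
  haveI : IsIso (DerivedCategory.Q.map (((tCx R).flip.obj P).map g)) :=
    (DerivedCategory.isIso_Q_map_iff_quasiIso _ _).2 hq
  exact ⟨(DRing.LTensorCx R L).mapIso eP.symm ≪≫ e ≪≫ DerivedCategory.Q.mapIso (totBraidIso P L) ≪≫
    (asIso (DerivedCategory.Q.map (((tCx R).flip.obj P).map g))).symm ≪≫
    DerivedCategory.Q.mapIso (totBraidIso Q P)⟩

end Groth.Agent.DRingAmp
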