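import Groth.Agent.DRingAmp.FlatTerms
import Groth.Agent.DRingAmp.TensorCx

/-!
# Tensor products of relatively perfect and perfect objects
-/

universe u

open CategoryTheory Limits MonoidalCategory HomologicalComplex
open scoped TensorProduct

namespace Groth.Agent.DRingAmp

attribute [local instance] HasDerivedCategory.standard

set_option linter.style.haveILetI false

open Groth.Agent.DRingKFlat Groth.Agent.DRingTorAmp

variable {R A : Type u} [CommRing R] [CommRing A] [Algebra R A]

/-- Finitely presented over `A` and flat over `R`. -/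
def IsGood (R : Type u) [CommRing R] [Algebra R A] (X : ModuleCat.{u} A) : Prop :=
  Module.FinitePresentation A X ∧ Module.Flat R ((ModuleCat.restrictScalars.{u} (algebraMap R A)).obj X)

theorem isGood_retract {X Y : ModuleCat.{u} A} (i : X ⟶ Y) (r : Y ⟶ X) (h : i ≫ r = 𝟙 X) (hY : IsGood R Y) :
    IsGood R X := by
  obtain ⟨h1, h2⟩ := hY
  have h' : ∀ x, r (i x) = x := fun x => ConcreteCategory.congr_hom h x
  refine ⟨Module.finitePresentation_of_surjective r.hom (fun x => ⟨i x, h' x⟩) ?_, ?_⟩
  · have : LinearMap.ker r.hom = LinearMap.range (LinearMap.id - i.hom ∘ₗ r.hom) := by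
      ext y
      constructor
      · intro hy
        refine ⟨y, ?_⟩
        show y - i (r y) = y
        rw [show r y = 0 from hy, map_zero i.hom, sub_zero]
      · rintro ⟨z, rfl⟩
        show r (z - i (r z)) = 0
        rw [map_sub r.hom, h', sub_self]
    rw [this]
    exact Submodule.fg_range _
  · exact Module.Flat.of_retract ((ModuleCat.restrictScalars.{u} (algebraMap R A)).map i).hom
      ((ModuleCat.restrictScalars.{u} (algebraMap R A)).map r).hom (LinearMap.ext h')

theorem isGood_pi {ι : Type u} [Finite ι] (X : ι → ModuleCat.{u} A) (h : ∀ i, IsGood R (X i)) :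
    IsGood R (ModuleCat.of A (∀ i, X i)) := by
  classical
  haveI := Fintype.ofFinite ι
  haveI := fun i => (h i).1
  refine ⟨inferInstanceAs (Module.FinitePresentation A (∀ i, X i)), ?_⟩
  letI : ∀ i, Module R (X i) := fun i => Module.compHom (X i) (algebraMap R A)
  haveI : ∀ i, Module.Flat R (X i) := fun i => (h i).2
  haveI : Module.Flat R (∀ i, X i) := Module.Flat.of_linearEquiv
    (DirectSum.linearEquivFunOnFintype R ι (fun i => X i)).symm
  let f : ((ModuleCat.restrictScalars.{u} (algebraMap R A)).obj (ModuleCat.of A (∀ i, X i))) ≃ₗ[R] (∀ i, X i) :=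
    { toFun := fun x => x, invFun := fun x => x, left_inv := fun _ => rfl, right_inv := fun _ => rfl,
      map_add' := fun _ _ => rfl, map_smul' := fun _ _ => rfl }
  exact Module.Flat.of_linearEquiv f

theorem isGood_iso {X Y : ModuleCat.{u} A} (e : X ≅ Y) (hY : IsGood R Y) : IsGood R X :=
  isGood_retract e.hom e.inv e.hom_inv_id hY

theorem isGood_tensor {X P : ModuleCat.{u} A} (hX : IsGood R X) [Module.Finite A P] [Module.Projective A P] :
    IsGood R (ModuleCat.of A (X ⊗[A] P)) := by
  obtain ⟨k, f, hf⟩ := Module.Finite.exists_fin' A P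
  obtain ⟨g, hg⟩ := Module.projective_lifting_property f LinearMap.id hf
  have h1 : IsGood R (ModuleCat.of A (X ⊗[A] (ULift.{u} (Fin k) → A))) :=
    isGood_iso (TensorProduct.piScalarRight A A X (ULift.{u} (Fin k))).toModuleIso
      (isGood_pi (fun _ : ULift.{u} (Fin k) => X) fun _ => hX)
  let e : (ULift.{u} (Fin k) → A) ≃ₗ[A] (Fin k → A) := LinearEquiv.funCongrLeft A A Equiv.ulift.symm
  refine isGood_retract (ModuleCat.ofHom ((e.symm.toLinearMap ∘ₗ g).lTensor X))
    (ModuleCat.ofHom ((f ∘ₗ e.toLinearMap).lTensor X)) (ModuleCat.hom_ext ?_) h1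
  show (f ∘ₗ e.toLinearMap).lTensor X ∘ₗ (e.symm.toLinearMap ∘ₗ g).lTensor X = LinearMap.id
  rw [← LinearMap.lTensor_comp, show (f ∘ₗ e.toLinearMap) ∘ₗ e.symm.toLinearMap ∘ₗ g = LinearMap.id from
    LinearMap.ext fun p => by simpa using LinearMap.congr_fun hg p, LinearMap.lTensor_id]

theorem isGood_tot {F K : DRing.Cx A} {a b : ℤ} (hF : DRing.VanishesOutside F a b) (hFg : ∀ p, IsGood R (F.X p))
    (hK : DRing.TermwiseFiniteProjective K) (n : ℤ) : IsGood R ((tot F K).X n) := by
  classical
  let J : Type u := ULift.{u} ↥(Finset.Icc a b)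
  let T : J → ModuleCat.{u} A := fun j => ((tB A).obj (F.X j.down.1)).obj (K.X (n - j.down.1))
  have hT : ∀ j, IsGood R (T j) := fun j => by
    haveI := (hK (n - j.down.1)).1
    haveI := (hK (n - j.down.1)).2
    exact isGood_tensor (P := K.X (n - j.down.1)) (hFg j.down.1)
  let u : ModuleCat.of A (∀ j, T j) ⟶ (tot F K).X n :=
    ∑ j : J, ModuleCat.ofHom (LinearMap.proj j) ≫
      ιMapBifunctor F K (tB A) (ComplexShape.up ℤ) j.down.1 (n - j.down.1) n (add_sub_cancel j.down.1 n)
  let v : (tot F K).X n ⟶ ModuleCat.of A (∀ j, T j) := mapBifunctorDesc fun p q h =>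
    if hp : p ∈ Finset.Icc a b then
      ((tB A).obj (F.X p)).map (K.XIsoOfEq (show q = n - p by have : p + q = n := h; omega)).hom ≫
        ModuleCat.ofHom (LinearMap.single A (fun j => (T j : Type u)) ⟨⟨p, hp⟩⟩)
    else 0
  refine isGood_retract v u (mapBifunctor.hom_ext fun p q h => ?_) (isGood_pi T hT)
  have hpq : p + q = n := h
  obtain rfl : q = n - p := by omega
  by_cases hp : p ∈ Finset.Icc a b
  · have hv : ιMapBifunctor F K (tB A) (ComplexShape.up ℤ) p (n - p) n h ≫ v =
        ModuleCat.ofHom (LinearMap.single A (fun j => (T j : Type u)) (⟨⟨p, hp⟩⟩ : J)) := by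
      refine (ι_mapBifunctorDesc _ p (n - p) h).trans ?_
      simp only [dif_pos hp, XIsoOfEq_rfl, Iso.refl_hom, CategoryTheory.Functor.map_id]
      exact Category.id_comp _
    refine (Category.assoc _ _ _).symm.trans ((congrArg (· ≫ u) hv).trans (Eq.trans ?_ (Category.comp_id _).symm))
    simp only [u, Preadditive.comp_sum]
    rw [Finset.sum_eq_single (⟨⟨p, hp⟩⟩ : J)]
    · refine (Category.assoc _ _ _).symm.trans ((congrArg (· ≫ _) ?_).trans (Category.id_comp _))
      exact ModuleCat.hom_ext (LinearMap.ext fun x => Pi.single_eq_same (M := fun j => (T j : Type u)) (⟨⟨p, hp⟩⟩ : J) (show (T ⟨⟨p, hp⟩⟩ : Type u) from x))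
    · intro j _ hj
      refine (Category.assoc _ _ _).symm.trans ((congrArg (· ≫ _) ?_).trans zero_comp)
      exact ModuleCat.hom_ext (LinearMap.ext fun x => Pi.single_eq_of_ne (M := fun j => (T j : Type u)) hj x)
    · intro h'
      exact absurd (Finset.mem_univ _) h'
  · exact IsZero.eq_of_src (((tB A).flip.obj (K.X (n - p))).map_isZero (hF p (by
      rw [Finset.mem_Icc] at hp; omega))) _ _

theorem tot_outside {F K : DRing.Cx A} {a b a' b' : ℤ} (hF : DRing.VanishesOutside F a b)
    (hK : DRing.VanishesOutside K a' b') : DRing.VanishesOutside (tot F K) (a + a') (b + b') := fun n hn =>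
  isZero_tot_X fun p q h => by
    by_cases hp : p < a ∨ b < p
    · exact Or.inl (hF p hp)
    · exact Or.inr (hK q (by omega))

theorem isRelPerfect_lTensorCx [Module.Flat R A] [Algebra.FinitePresentation R A] (E : DRing.Cx A) {a b : ℤ}
    (hEb : DRing.VanishesOutside E a b) (hEp : DRing.TermwiseFiniteProjective E) [DRing.HasLTensorCx A E]
    {M : Dual.D A} (hM : Dual2.IsRelPerfect R A M) : Dual2.IsRelPerfect R A ((DRing.LTensorCx A E).obj M) := by
  obtain ⟨F, c, d, hF, hFg, ⟨eF⟩⟩ := exists_terms_of_isRelPerfect hM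
  obtain ⟨P, π, hP, hπ, -⟩ := DRingKProj.exists_resolution F
  haveI := hP
  haveI := hπ
  haveI : IsIso (DerivedCategory.Q.map π) := (DerivedCategory.isIso_Q_map_iff_quasiIso _ π).2 hπ
  obtain ⟨e⟩ := exists_lTensorCx_iso E P
  have hE : IsKFl E := isKFl_of_flat (fun i hi => hEb i (Or.inr hi)) fun i => haveI := (hEp i).2; inferInstance
  have hq := quasiIso_tot_flip hE π
  haveI : IsIso (DerivedCategory.Q.map (((tCx A).flip.obj E).map π)) :=
    (DerivedCategory.isIso_Q_map_iff_quasiIso _ _).2 hq
  refine isRelPerfect_iso ((asIso (DerivedCategory.Q.map (((tCx A).flip.obj E).map π))).symm ≪≫ e.symm ≪≫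
    (DRing.LTensorCx A E).mapIso (asIso (DerivedCategory.Q.map π) ≪≫ eF))
    (isRelPerfect_of_terms (tot_outside hF hEb) fun i => isGood_tot hF hFg hEp i)

end Groth.Agent.DRingAmp
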