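import Groth.Agent.DRingTorAmp.RestrictPC
import Groth.Agent.DRingTorAmp.Retract
import Groth.Agent.DRingTorAmp.TorDim
import Groth.Prelude.Def_DualSh

/-!
# Relatively perfect objects
-/

universe u

open CategoryTheory Limits Pretriangulated ZeroObject

namespace Groth.Agent.DRingAmp

attribute [local instance] HasDerivedCategory.standard

set_option linter.style.haveILetI false

open Groth.Agent.DRingTorAmp Groth.Agent.DRingKProj

variable {R A : Type u} [CommRing R] [CommRing A]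

theorem isRelPerfect_of_isPerfect (i : Algebra R A) [Module.Flat R A] (K : Dual.D A) (hK : DRing.IsPerfect A K) :
    Dual2.IsRelPerfect R A K := by
  obtain ⟨φ, rfl⟩ := exists_toAlgebra i
  obtain ⟨hpc, a, b, hab⟩ := (isPerfect_iff K).1 hK
  letI := φ.toAlgebra
  exact ⟨hpc, _, _, torAmp_restrict φ (c := 0) (d := 0) (torAmp_flat A) hab⟩

theorem hasTorAmplitudeIn_shift {K : Dual.D R} {a b : ℤ} (h : DRing.HasTorAmplitudeIn R a b K) (n : ℤ) :
    DRing.HasTorAmplitudeIn R (a - n) (b - n) (K⟦n⟧) := by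
  obtain ⟨E, hE, hF, ⟨e⟩⟩ := h
  exact ⟨E⟦n⟧, fun i hi => hE (i + n) (by omega), fun i => hF (i + n),
    ⟨(DerivedCategory.Q.commShiftIso n).app E ≪≫ (shiftFunctor (Dual.D R) n).mapIso e⟩⟩

theorem isPseudoCoherent'_shift {K : Dual.D R} (h : DRing.IsPseudoCoherent' R K) (n : ℤ) :
    DRing.IsPseudoCoherent' R (K⟦n⟧) := by
  obtain ⟨E, c, hE, hF, ⟨e⟩⟩ := h
  exact ⟨E⟦n⟧, c - n, fun i hi => hE (i + n) (by omega), fun i => hF (i + n),
    ⟨(DerivedCategory.Q.commShiftIso n).app E ≪≫ (shiftFunctor (Dual.D R) n).mapIso e⟩⟩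

theorem isRelPerfect_obj₂ [Algebra R A] (T : Triangle (Dual.D A)) (hT : T ∈ distTriang _)
    (h₁ : Dual2.IsRelPerfect R A T.obj₁) (h₃ : Dual2.IsRelPerfect R A T.obj₃) :
    Dual2.IsRelPerfect R A T.obj₂ := by
  obtain ⟨p₁, a, b, t₁⟩ := h₁
  obtain ⟨p₃, a', b', t₃⟩ := h₃
  refine ⟨pseudoCoherent'_of_forall fun m => isPseudoCoherent_obj₂ T hT m
    (isPseudoCoherent_of_pseudoCoherent' p₁ m) (isPseudoCoherent_of_pseudoCoherent' p₃ m),
    min a a', max b b', ?_⟩
  exact torAmp_obj₂ _ ((DRing.restrictD (algebraMap R A)).map_distinguished T hT)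
    (hasTorAmplitudeIn_mono t₁ (min_le_left _ _) (le_max_left _ _))
    (hasTorAmplitudeIn_mono t₃ (min_le_right _ _) (le_max_right _ _))

theorem isRelPerfect_iso [Algebra R A] {X Y : Dual.D A} (e : X ≅ Y) (h : Dual2.IsRelPerfect R A X) :
    Dual2.IsRelPerfect R A Y := by
  obtain ⟨⟨E, c, hE, hF, ⟨e'⟩⟩, a, b, E', hE', hF', ⟨e''⟩⟩ := h
  exact ⟨⟨E, c, hE, hF, ⟨e' ≪≫ e⟩⟩, a, b, E', hE', hF',
    ⟨e'' ≪≫ (DRing.restrictD (algebraMap R A)).mapIso e⟩⟩

theorem isRelPerfect_retract [Algebra R A] {X Y : Dual.D A} (i : X ⟶ Y) (r : Y ⟶ X) (hir : i ≫ r = 𝟙 X)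
    (h : Dual2.IsRelPerfect R A Y) : Dual2.IsRelPerfect R A X := by
  obtain ⟨p, a, b, t⟩ := h
  exact ⟨pseudoCoherent'_of_forall fun m =>
      DRingRetract.isPseudoCoherent_of_retract i r hir (isPseudoCoherent_of_pseudoCoherent' p m),
    a, b, hasTorAmplitudeIn_of_retract ((DRing.restrictD (algebraMap R A)).map i)
      ((DRing.restrictD (algebraMap R A)).map r) (by rw [← Functor.map_comp, hir]; exact CategoryTheory.Functor.map_id _ _) t⟩

theorem isRelPerfect_triangulated [Algebra R A] :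
    ObjectProperty.IsTriangulated (C := Dual.D A) (fun K => Dual2.IsRelPerfect R A K) ∧
      ObjectProperty.IsClosedUnderIsomorphisms (C := Dual.D A) (fun K => Dual2.IsRelPerfect R A K) ∧
      ∀ X Y : Dual.D A, Dual2.IsRelPerfect R A (X ⊞ Y) → Dual2.IsRelPerfect R A X ∧ Dual2.IsRelPerfect R A Y := by
  haveI hiso : ObjectProperty.IsClosedUnderIsomorphisms (C := Dual.D A) (fun K => Dual2.IsRelPerfect R A K) :=
    ⟨fun e h => isRelPerfect_iso e h⟩
  refine ⟨?_, hiso, fun X Y h => ⟨isRelPerfect_retract biprod.inl biprod.fst biprod.inl_fst h,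
    isRelPerfect_retract biprod.inr biprod.snd biprod.inr_snd h⟩⟩
  exact
    { exists_zero := ⟨0, isZero_zero _,
        pseudoCoherent'_of_forall fun m => pcAll_zero (isZero_zero _) m,
        0, 0, torAmp_of_isZero ((DRing.restrictD (algebraMap R A)).map_isZero (isZero_zero _)) 0 0⟩
      isStableUnderShiftBy := fun n => ⟨fun K h => by
        obtain ⟨p, a, b, t⟩ := h
        refine ⟨isPseudoCoherent'_shift p n, a - n, b - n, ?_⟩
        exact (torAmpProp (a - n) (b - n)).prop_of_iso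
          (((DRing.restrictD (algebraMap R A)).commShiftIso n).app K).symm (hasTorAmplitudeIn_shift t n)⟩
      toIsTriangulatedClosed₂ := ObjectProperty.IsTriangulatedClosed₂.mk' fun T hT h₁ h₃ =>
        isRelPerfect_obj₂ T hT h₁ h₃ }

end Groth.Agent.DRingAmp
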