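import Groth.Agent.DRingAmp.Nilpotent
import Groth.Agent.DRingTorAmp.Restrict
import Groth.Agent.DRingAmp.RelPerfect
import Mathlib.RingTheory.IsTensorProduct

/-!
# Base change along a push-out square, termwise
-/

universe u

open CategoryTheory Limits HomologicalComplex
open scoped TensorProduct

namespace Groth.Agent.DRingAmp

attribute [local instance] HasDerivedCategory.standard
attribute [local instance] Algebra.TensorProduct.rightAlgebra

set_option linter.style.haveILetI false

open Groth.Agent.DRingTorAmp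

variable {R A R' : Type u} [CommRing R] [CommRing A] [CommRing R'] (φ : R →+* A) (ψ : R →+* R')

/-- The projection `A → R' ⊗_R A`. -/
noncomputable abbrev pushRight :=
  letI := φ.toAlgebra
  letI := ψ.toAlgebra
  (Algebra.TensorProduct.includeRight.toRingHom : A →+* R' ⊗[R] A)

/-- The projection `R' → R' ⊗_R A`. -/
noncomputable abbrev pushLeft :=
  letI := φ.toAlgebra
  letI := ψ.toAlgebra
  algebraMap R' (R' ⊗[R] A)

/-- `R' ⊗_R M = (R' ⊗_R A) ⊗_A M` for an `A`-module `M`. -/
noncomputable def pushIso (M : ModuleCat.{u} A) :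
    (ModuleCat.extendScalars.{u, u, u} ψ).obj ((ModuleCat.restrictScalars.{u} φ).obj M) ≅
      (ModuleCat.restrictScalars.{u} (pushLeft φ ψ)).obj
        ((ModuleCat.extendScalars.{u, u, u} (pushRight φ ψ)).obj M) :=
  letI := φ.toAlgebra
  letI := ψ.toAlgebra
  letI : Module R M := Module.compHom M φ
  haveI : IsScalarTower R A M := ⟨fun r a x => by
    rw [Algebra.smul_def, mul_smul]
    rfl⟩
  let e := (Algebra.IsPushout.cancelBaseChange R R' A (R' ⊗[R] A) M).symm
  let f : ((ModuleCat.extendScalars.{u, u, u} ψ).obj ((ModuleCat.restrictScalars.{u} φ).obj M) : Type u) ≃ₗ[R']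
      ((ModuleCat.restrictScalars.{u} (pushLeft φ ψ)).obj
        ((ModuleCat.extendScalars.{u, u, u} (pushRight φ ψ)).obj M) : Type u) :=
    { toFun := fun x => e x
      invFun := fun x => e.symm x
      left_inv := fun x => e.symm_apply_apply x
      right_inv := fun x => e.apply_symm_apply x
      map_add' := fun x y => e.map_add x y
      map_smul' := fun r x => by
        refine (e.map_smul r x).trans ?_
        show r • (e x) = pushLeft φ ψ r • (e x)
        exact (algebraMap_smul (R' ⊗[R] A) r (e x)).symm }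
  f.toModuleIso

theorem pushIso_tmul (M : ModuleCat.{u} A) (r : R') (m : M) :
    letI := φ.toAlgebra
    letI := ψ.toAlgebra
    letI : Module R M := Module.compHom M φ
    (pushIso φ ψ M).hom.hom (r ⊗ₜ[R] m : R' ⊗[R] M) = ((algebraMap R' (R' ⊗[R] A) r) ⊗ₜ[A] m : (R' ⊗[R] A) ⊗[A] M) := by
  letI := φ.toAlgebra
  letI := ψ.toAlgebra
  letI : Module R M := Module.compHom M φ
  haveI : IsScalarTower R A M := ⟨fun r a x => by
    rw [Algebra.smul_def, mul_smul]
    rfl⟩
  exact Algebra.IsPushout.cancelBaseChange_symm_tmul R R' A (R' ⊗[R] A) M r m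

/-- Termwise base change commutes with restriction along a push-out square. -/
noncomputable def pushCxIso (E : DRing.Cx A) :
    (escCx ψ).obj ((DRing.restrictCx φ).obj E) ≅
      (DRing.restrictCx (pushLeft φ ψ)).obj ((escCx (pushRight φ ψ)).obj E) :=
  HomologicalComplex.Hom.isoOfComponents (fun i => pushIso φ ψ (E.X i)) fun i j _ => by
    letI := φ.toAlgebra
    letI := ψ.toAlgebra
    letI : ∀ n, Module R (E.X n) := fun n => Module.compHom (E.X n) φ
    refine ModuleCat.hom_ext (LinearMap.ext fun z => ?_)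
    induction z using TensorProduct.induction_on with
    | zero => exact (map_zero _).trans (map_zero _).symm
    | tmul r m =>
      refine (congrArg (fun t => ((DRing.restrictCx (pushLeft φ ψ)).obj ((escCx (pushRight φ ψ)).obj E)).d i j t)
        (pushIso_tmul φ ψ (E.X i) r m)).trans ?_
      exact (pushIso_tmul φ ψ (E.X j) r (E.d i j m)).symm
    | add x y hx hy => exact (map_add _ _ _).trans ((congrArg₂ (· + ·) hx hy).trans (map_add _ _ _).symm)

/-- Restriction keeps flat bounded above complexes K-flat along a flat map. -/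
theorem restrict_flat (hφ : φ.Flat) {E : DRing.Cx A} (hE : DRing.TermwiseFlat E) :
    DRing.TermwiseFlat ((DRing.restrictCx φ).obj E) := fun j => by
  letI := φ.toAlgebra
  letI : Module R (E.X j) := Module.compHom (E.X j) φ
  haveI : IsScalarTower R A (E.X j) := ⟨fun r s x => by
    rw [Algebra.smul_def, mul_smul]
    rfl⟩
  haveI : Module.Flat R A := hφ
  haveI := hE j
  exact Module.Flat.trans R A (E.X j)

theorem restrict_above {E : DRing.Cx A} {b : ℤ} (hE : DRing.VanishesAbove E b) :
    DRing.VanishesAbove ((DRing.restrictCx φ).obj E) b := fun j hj =>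
  (ModuleCat.restrictScalars.{u} φ).map_isZero (hE j hj)

/-- Relative perfectness after base change, for an explicit representative. -/
theorem hasTorAmplitudeIn_push (hφ : φ.Flat) {E : DRing.Cx A} {c : ℤ} (hc : DRing.VanishesAbove E c)
    (hE : DRing.TermwiseFlat E) {a b : ℤ}
    (h : DRing.HasTorAmplitudeIn R a b (DRing.toD ((DRing.restrictCx φ).obj E))) :
    DRing.HasTorAmplitudeIn R' a b
      (DRing.toD ((DRing.restrictCx (pushLeft φ ψ)).obj ((escCx (pushRight φ ψ)).obj E))) := by
  haveI := DRingKProj.hasLBaseChange ψ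
  obtain ⟨e⟩ := exists_lBaseChange_iso ψ (isKFl_of_flat (restrict_above φ hc) (restrict_flat φ hφ hE))
  exact (torAmpProp a b).prop_of_iso (e ≪≫ DerivedCategory.Q.mapIso (pushCxIso φ ψ E))
    (hasTorAmplitudeIn_lBaseChange ψ h)

theorem isRelPerfect_push (hφ : φ.Flat) [DRing.HasLBaseChange (pushRight φ ψ)] (K : Dual.D A)
    (hK : letI := φ.toAlgebra; Dual2.IsRelPerfect R A K) :
    letI := φ.toAlgebra
    letI := ψ.toAlgebra
    Dual2.IsRelPerfect R' (R' ⊗[R] A) ((DRing.LBaseChange (pushRight φ ψ)).obj K) := by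
  letI := φ.toAlgebra
  letI := ψ.toAlgebra
  obtain ⟨⟨E, c, hc, hE, ⟨e⟩⟩, a, b, hab⟩ := hK
  have hfl : DRing.TermwiseFlat E := fun j => haveI := (hE j).2; inferInstance
  obtain ⟨e'⟩ := exists_lBaseChange_iso (pushRight φ ψ) (isKFl_of_flat hc hfl)
  let eK : DRing.toD ((escCx (pushRight φ ψ)).obj E) ≅ (DRing.LBaseChange (pushRight φ ψ)).obj K :=
    e'.symm ≪≫ (DRing.LBaseChange (pushRight φ ψ)).mapIso e
  refine ⟨⟨_, c, fun j hj => (ModuleCat.extendScalars.{u, u, u} _).map_isZero (hc j hj),
    DRingKProj.termwiseFiniteFree_map_extendScalars _ hE, ⟨eK⟩⟩, a, b, ?_⟩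
  exact (torAmpProp a b).prop_of_iso ((restrictQIso _ _).symm ≪≫ (DRing.restrictD _).mapIso eK)
    (hasTorAmplitudeIn_push φ ψ hφ hc hfl
      ((torAmpProp a b).prop_of_iso ((DRing.restrictD φ).mapIso e.symm ≪≫ restrictQIso φ E) hab))

theorem isRelPerfect_of_push (hφ : φ.Flat) (hs : Function.Surjective ψ) (hn : IsNilpotent (RingHom.ker ψ))
    [DRing.HasLBaseChange (pushRight φ ψ)] (K : Dual.D A)
    (hK : letI := φ.toAlgebra; letI := ψ.toAlgebra;
      Dual2.IsRelPerfect R' (R' ⊗[R] A) ((DRing.LBaseChange (pushRight φ ψ)).obj K)) :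
    letI := φ.toAlgebra
    Dual2.IsRelPerfect R A K := by
  letI := φ.toAlgebra
  letI := ψ.toAlgebra
  obtain ⟨hpc, a, b, hab⟩ := hK
  have hs' : Function.Surjective (pushRight φ ψ) := Algebra.TensorProduct.includeRight_surjective A hs
  have hn' : IsNilpotent (RingHom.ker (pushRight φ ψ)) := by
    let J : Ideal A := (RingHom.ker ψ).map φ
    let g : R' →+* A ⧸ J := RingHom.liftOfSurjective ψ hs
      ⟨(Ideal.Quotient.mk J).comp φ, fun r hr => by
        rw [RingHom.mem_ker, RingHom.comp_apply, Ideal.Quotient.eq_zero_iff_mem]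
        exact Ideal.mem_map_of_mem φ hr⟩
    let g' : R' →ₐ[R] A ⧸ J :=
      { g with commutes' := fun r => RingHom.liftOfRightInverse_comp_apply _ _ _ _ r }
    let G : R' ⊗[R] A →ₐ[R] A ⧸ J :=
      Algebra.TensorProduct.lift g' (Ideal.Quotient.mkₐ R J) fun _ _ => Commute.all _ _
    have hle : RingHom.ker (pushRight φ ψ) ≤ J := fun x hx => by
      rw [← Ideal.Quotient.eq_zero_iff_mem]
      have h0 : G (pushRight φ ψ x) = Ideal.Quotient.mk J x := by
        simp [G, pushRight]
      rw [← h0, RingHom.mem_ker.1 hx, map_zero]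
    obtain ⟨k, hk⟩ := hn
    refine ⟨k, le_bot_iff.1 ((Ideal.pow_right_mono hle k).trans (le_of_eq ?_))⟩
    rw [← Ideal.map_pow, hk]
    exact Ideal.map_bot
  obtain ⟨E, c, hc, hE, ⟨e⟩⟩ := isPseudoCoherent'_of_lBaseChange hs' hn' K hpc
  have hfl : DRing.TermwiseFlat E := fun j => haveI := (hE j).2; inferInstance
  obtain ⟨e'⟩ := exists_lBaseChange_iso (pushRight φ ψ) (isKFl_of_flat hc hfl)
  refine ⟨⟨E, c, hc, hE, ⟨e⟩⟩, a, b, ?_⟩
  have hF := restrict_flat φ hφ hfl
  refine (torAmpProp a b).prop_of_iso ((restrictQIso φ E).symm ≪≫ (DRing.restrictD φ).mapIso e)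
    (hasTorAmplitudeIn_of_exact (isKFl_of_flat (restrict_above φ hc) hF) (Iso.refl _) fun M i hi => ?_)
  exact exactAt_tensor_of_nilpotent hs hn hF (fun N => exactAt_of_hasTorAmplitudeIn hab
    (DCohBridge.isKFlat_baseChange ψ (isKFl_of_flat (restrict_above φ hc) hF))
    (DerivedCategory.Q.mapIso (pushCxIso φ ψ E) ≪≫ (restrictQIso _ _).symm ≪≫
      (DRing.restrictD _).mapIso (e'.symm ≪≫ (DRing.LBaseChange (pushRight φ ψ)).mapIso e)) N i hi) M

end Groth.Agent.DRingAmp
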