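import Groth.Agent.DRingTorAmp.Resolution
import Groth.Agent.DRingTorAmp.Triangle
import Groth.Agent.DRingTorAmp.Retract
import Groth.Agent.CAlgReg.Serre
import Mathlib.RingTheory.Spectrum.Prime.FreeLocus

/-!
# Perfect modules over regular rings
-/

universe u

open CategoryTheory Limits
open scoped TensorProduct

namespace Groth.Agent.DRingAmp

attribute [local instance] HasDerivedCategory.standard

set_option linter.style.haveILetI false

open Groth.Agent.DRingTorAmp Groth.Agent.CAlgReg

variable {R : Type u} [CommRing R] [IsNoetherianRing R]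

/-- The primes at which the projective dimension is `≤ n`. -/
def pdLocus (n : ℕ) (M : Type u) [AddCommGroup M] [Module R M] : Set (PrimeSpectrum R) :=
  {p | PdLT (Localization.AtPrime p.asIdeal) ((Localization.AtPrime p.asIdeal) ⊗[R] M) (n + 1)}

omit [IsNoetherianRing R] in
theorem mem_pdLocus_ker {n k : ℕ} {M : Type u} [AddCommGroup M] [Module R M] (g : (Fin k → R) →ₗ[R] M)
    (hg : Function.Surjective g) (p : PrimeSpectrum R) :
    p ∈ pdLocus (n + 1) M ↔ p ∈ pdLocus n (LinearMap.ker g) := by
  haveI : Module.Flat R (Localization.AtPrime p.asIdeal) := IsLocalization.flat _ p.asIdeal.primeCompl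
  obtain ⟨h1, h2, h3⟩ := baseChange_shortExact (Localization.AtPrime p.asIdeal) (A := LinearMap.ker g)
    (LinearMap.ker g).subtype g Subtype.val_injective (LinearMap.exact_subtype_ker_map g) hg
  exact ⟨fun h => pdLT_left _ _ h1 h2 h3 h, fun h => pdLT_right _ _ h1 h2 h3 h⟩

theorem isOpen_pdLocus : ∀ (n : ℕ) (M : Type u) [AddCommGroup M] [Module R M] [Module.Finite R M],
    IsOpen (pdLocus (R := R) n M)
  | 0, M, _, _, _ => by
    haveI := Module.finitePresentation_of_finite R M
    convert Module.isOpen_freeLocus (R := R) (M := M) using 1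
    ext p
    rw [Module.mem_freeLocus_iff_tensor p (Localization.AtPrime p.asIdeal)]
    constructor
    · intro h
      haveI := projective_of_pdLT_one h
      exact Module.free_of_flat_of_isLocalRing
    · intro h
      exact pdLT_one
  | n + 1, M, _, _, _ => by
    obtain ⟨k, g, hg⟩ := Module.Finite.exists_fin' R M
    rw [show pdLocus (R := R) (n + 1) M = pdLocus n (LinearMap.ker g) from
      Set.ext fun p => mem_pdLocus_ker g hg p]
    exact isOpen_pdLocus n _

omit [IsNoetherianRing R] in
theorem isPerfectModule_projective (M : Type u) [AddCommGroup M] [Module R M] [Module.Finite R M]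
    [Module.Projective R M] : DRing.IsPerfectModule R M := by
  refine ⟨_, 0, 0, fun i hi => HomologicalComplex.isZero_single_obj_X (ComplexShape.up ℤ) 0 _ i (by omega),
    fun i => ?_, ⟨(inDIso M).symm⟩⟩
  by_cases hi : i = 0
  · subst hi
    let ei := (HomologicalComplex.singleObjXSelf (ComplexShape.up ℤ) 0 (ModuleCat.of R M)).toLinearEquiv
    exact ⟨Module.Finite.equiv ei.symm, Module.Projective.of_equiv ei.symm⟩
  · haveI := ModuleCat.subsingleton_of_isZero
      (HomologicalComplex.isZero_single_obj_X (ComplexShape.up ℤ) 0 (ModuleCat.of R M) i hi)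
    exact ⟨inferInstance, inferInstance⟩

theorem isPerfectModule_of_pdLocus : ∀ (n : ℕ) (M : Type u) [AddCommGroup M] [Module R M] [Module.Finite R M],
    pdLocus (R := R) n M = Set.univ → DRing.IsPerfectModule R M
  | 0, M, _, _, _, h => by
    haveI := Module.finitePresentation_of_finite R M
    haveI : Module.Projective R M := (Module.freeLocus_eq_univ_iff (R := R) (M := M)).1
      (Set.eq_univ_iff_forall.2 fun p => by
        rw [Module.mem_freeLocus_iff_tensor p (Localization.AtPrime p.asIdeal)]
        haveI := projective_of_pdLT_one (Set.eq_univ_iff_forall.1 h p)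
        exact Module.free_of_flat_of_isLocalRing)
    exact isPerfectModule_projective M
  | n + 1, M, _, _, _, h => by
    obtain ⟨k, g, hg⟩ := Module.Finite.exists_fin' R M
    have hK := isPerfectModule_of_pdLocus n (LinearMap.ker g)
      (Set.eq_univ_iff_forall.2 fun p => (mem_pdLocus_ker g hg p).1 (Set.eq_univ_iff_forall.1 h p))
    let S : ShortComplex (ModuleCat.{u} R) := ShortComplex.mk (ModuleCat.ofHom (LinearMap.ker g).subtype)
      (ModuleCat.ofHom g) (ModuleCat.hom_ext (LinearMap.ext fun x => x.2))
    have hS : S.ShortExact :=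
      { exact := (ShortComplex.ShortExact.moduleCat_exact_iff_function_exact S).2 (LinearMap.exact_subtype_ker_map g)
        mono_f := (ModuleCat.mono_iff_injective _).2 (Submodule.injective_subtype _)
        epi_g := (ModuleCat.epi_iff_surjective _).2 hg }
    exact isPerfect_obj₃ hS.singleTriangle hS.singleTriangle_distinguished hK
      (isPerfectModule_projective (Fin k → R))

theorem isPerfectModule_of_regular
    (hreg : ∀ p : PrimeSpectrum R, IsRegularLocalRing (Localization.AtPrime p.asIdeal))
    (M : Type u) [AddCommGroup M] [Module R M] [Module.Finite R M] : DRing.IsPerfectModule R M := by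
  have hcover : ⋃ n, pdLocus (R := R) n M = Set.univ := Set.eq_univ_iff_forall.2 fun p => by
    haveI := hreg p
    exact Set.mem_iUnion.2 ⟨_, pdLT_of_isRegularLocalRing
      (dim_eq_spanFinrank (R := Localization.AtPrime p.asIdeal)) _⟩
  have hmono : Monotone fun n => pdLocus (R := R) n M := fun a b hab p hp => pdLT_mono (by omega) hp
  obtain ⟨n, hn⟩ := isCompact_univ.elim_directed_cover _ (fun n => isOpen_pdLocus n M) hcover.ge hmono.directed_le
  exact isPerfectModule_of_pdLocus n M (Set.univ_subset_iff.1 hn)

omit [IsNoetherianRing R] in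
theorem finite_of_isPerfectModule (M : Type u) [AddCommGroup M] [Module R M] (h : DRing.IsPerfectModule R M) :
    Module.Finite R M := by
  obtain ⟨P, d, -, hfin⟩ := exists_resolution_of_isPerfect M h
  haveI := hfin 0
  exact Module.Finite.of_surjective (M := P.complex.X 0) (P.π.f 0).hom
    ((ModuleCat.epi_iff_surjective (P.π.f 0)).1 inferInstance)

end Groth.Agent.DRingAmp
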