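import Groth.Agent.DRingAmp.RelPerfect
import Groth.Agent.DRingAmp.PushBC
import Groth.Agent.PCHom.Basic

/-!
# Relatively perfect objects and complexes with flat finitely presented terms
-/

universe u

open CategoryTheory Limits Pretriangulated
open scoped TensorProduct

namespace Groth.Agent.DRingAmp

attribute [local instance] HasDerivedCategory.standard

set_option linter.style.haveILetI false

open Groth.Agent.DRingTorAmp Groth.Agent.DRingKProj

/-- A finitely presented module, flat over the base of a flat finitely presented algebra, is pseudo-coherent. -/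
theorem pcModule_of_flat_fp (R A M : Type u) [CommRing R] [CommRing A] [Algebra R A] [Module.Flat R A]
    [Algebra.FinitePresentation R A] [AddCommGroup M] [Module A M] [Module R M] [IsScalarTower R A M]
    [Module.FinitePresentation A M] [Module.Flat R M] : DRing.IsPseudoCoherentModule' A M := by
  obtain ⟨n, π, hπ⟩ := Algebra.FiniteType.iff_quotient_mvPolynomial''.1 (inferInstance : Algebra.FiniteType R A)
  letI := π.toRingHom.toAlgebra
  haveI : IsScalarTower R (MvPolynomial (Fin n) R) A := IsScalarTower.of_algebraMap_eq' π.comp_algebraMap.symm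
  letI : Module (MvPolynomial (Fin n) R) M := Module.compHom M π.toRingHom
  haveI : IsScalarTower (MvPolynomial (Fin n) R) A M := ⟨fun p a x => by
    show (π p * a) • x = π p • a • x
    rw [mul_smul]⟩
  haveI : IsScalarTower R (MvPolynomial (Fin n) R) M := ⟨fun r p x => by
    show π (r • p) • x = r • π p • x
    rw [map_smul, smul_assoc]⟩
  haveI : Module.FinitePresentation (MvPolynomial (Fin n) R) A :=
    Module.finitePresentation_of_surjective (Algebra.linearMap (MvPolynomial (Fin n) R) A) hπ
      (Algebra.FinitePresentation.ker_fG_of_surjective π hπ)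
  haveI : Module.FinitePresentation (MvPolynomial (Fin n) R) M := Module.FinitePresentation.trans _ M A
  exact (PCHom.pcModule_iff (MvPolynomial (Fin n) R) A M (PCHom.pc_of_flat_quotient A π hπ)).2
    (PCHom.pcModule_of_perfect (PerfHom.isPerfectModule_of_flat (A := R) M))

section

variable {R A : Type u} [CommRing R] [CommRing A] [Algebra R A] [Module.Flat R A] [Algebra.FinitePresentation R A]

theorem isRelPerfect_single (M : ModuleCat.{u} A) [Module.FinitePresentation A M]
    (hM : Module.Flat R ((ModuleCat.restrictScalars.{u} (algebraMap R A)).obj M)) (n : ℤ) :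
    Dual2.IsRelPerfect R A ((DerivedCategory.singleFunctor (ModuleCat.{u} A) n).obj M) := by
  letI : Module R M := Module.compHom M (algebraMap R A)
  haveI : IsScalarTower R A M := ⟨fun r a x => by
    rw [Algebra.smul_def, mul_smul]
    rfl⟩
  let G := (ModuleCat.restrictScalars.{u} (algebraMap R A)).obj M
  haveI : Module.Flat R G := hM
  haveI : Module.Flat R M := hM
  obtain ⟨E, c, hE, hF, ⟨e⟩⟩ := pcModule_of_flat_fp R A M
  obtain ⟨e'⟩ := shiftRep_iso e n
  refine ⟨⟨E⟦-n⟧, c + n, fun i hi => hE (i + -n) (by omega), fun i => hF (i + -n), ⟨e'⟩⟩, n, n, ?_⟩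
  exact (torAmpProp n n).prop_of_iso
    (((ModuleCat.restrictScalars.{u} (algebraMap R A)).mapDerivedCategorySingleFunctor n).app M).symm
    (hasTorAmplitudeIn_single (M := (M : Type u)) (by
      rw [sub_self]
      exact torAmp_flat (M : Type u)))

theorem isRelPerfect_of_terms {E : DRing.Cx A} {a b : ℤ} (hE : DRing.VanishesOutside E a b)
    (hfp : ∀ i : ℤ, Module.FinitePresentation A (E.X i) ∧
      Module.Flat R ((ModuleCat.restrictScalars.{u} (algebraMap R A)).obj (E.X i))) :
    Dual2.IsRelPerfect R A (DRing.toD E) := by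
  obtain ⟨htri, hiso, -⟩ := isRelPerfect_triangulated (R := R) (A := A)
  let Q : ObjectProperty (Dual.D A) := fun K => Dual2.IsRelPerfect R A K
  haveI : Q.IsClosedUnderIsomorphisms := hiso
  refine prop_of_terms Q (fun Z hZ => ?_) (fun T hT h₁ h₃ => isRelPerfect_obj₂ T hT h₁ h₃)
    (b + 1 - a).toNat E a (fun i hi => hE i (by omega)) fun i => ?_
  · exact ⟨pseudoCoherent'_of_forall fun m => pcAll_zero hZ m,
      0, 0, torAmp_of_isZero ((DRing.restrictD (algebraMap R A)).map_isZero hZ) 0 0⟩
  · haveI := (hfp i).1
    exact isRelPerfect_single (E.X i) (hfp i).2 i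

omit [Module.Flat R A] [Algebra.FinitePresentation R A] in
theorem restrict_tensor_exact {φ : R →+* A} {E : DRing.Cx A} {a b : ℤ} {c : ℤ} (hφ : φ.Flat)
    (hc : DRing.VanishesAbove E c) (hfl : DRing.TermwiseFlat E)
    (h : DRing.HasTorAmplitudeIn R a b ((DRing.restrictD φ).obj (DRing.toD E))) (M : ModuleCat.{u} R) (i : ℤ)
    (hi : i < a ∨ b < i) : (DRing.tensorCx ((DRing.restrictCx φ).obj E) M).ExactAt i :=
  exactAt_of_hasTorAmplitudeIn h (isKFl_of_flat (restrict_above φ hc) (restrict_flat φ hφ hfl))
    (restrictQIso φ E).symm M i hi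

theorem exists_terms_of_isRelPerfect {K : Dual.D A} (hK : Dual2.IsRelPerfect R A K) :
    ∃ (E : DRing.Cx A) (a b : ℤ), DRing.VanishesOutside E a b ∧
      (∀ i : ℤ, Module.FinitePresentation A (E.X i) ∧
        Module.Flat R ((ModuleCat.restrictScalars.{u} (algebraMap R A)).obj (E.X i))) ∧
      Nonempty (DRing.toD E ≅ K) := by
  obtain ⟨⟨E, c, hc, hE, ⟨e⟩⟩, a, b, hab⟩ := hK
  let φ := algebraMap R A
  have hφ : φ.Flat := RingHom.flat_algebraMap_iff.2 inferInstance
  have hfl : DRing.TermwiseFlat E := fun j => haveI := (hE j).2; inferInstance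
  have hex := restrict_tensor_exact hφ hc hfl
    ((torAmpProp a b).prop_of_iso ((DRing.restrictD φ).mapIso e.symm) hab)
  have hexA : ∀ i, i < a → E.ExactAt i := fun i hi => by
    have h := (exactAt_tensor_unit_iff _ i).1 (hex (ModuleCat.of R R) i (Or.inl hi))
    rw [exact_d_iff _ (i - 1) i (i + 1) (by omega) rfl] at h ⊢
    exact h
  haveI := quasiIso_cutπ hexA
  haveI : IsIso (DerivedCategory.Q.map (cutπ E a)) := (DerivedCategory.isIso_Q_map_iff_quasiIso _ _).2 inferInstance
  refine ⟨cut E a, a, max a c, fun i hi => ?_, fun i => ?_, ⟨(asIso (DerivedCategory.Q.map (cutπ E a))).symm ≪≫ e⟩⟩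
  · rcases hi with hi | hi
    · exact cut_isZero (Or.inl hi)
    · exact cut_isZero (Or.inr (hc i (by omega)))
  · by_cases hlt : i < a
    · haveI : Subsingleton ((cut E a).X i) := ModuleCat.subsingleton_of_isZero (cut_isZero (Or.inl hlt))
      haveI : Subsingleton ((ModuleCat.restrictScalars.{u} φ).obj ((cut E a).X i)) := ‹Subsingleton ((cut E a).X i)›
      haveI : Module.Finite A ((cut E a).X i) := inferInstance
      exact ⟨Module.finitePresentation_of_projective A _, inferInstance⟩
    haveI := (hE i).1
    haveI := (hE i).2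
    haveI : Module.Flat R ((ModuleCat.restrictScalars.{u} φ).obj (E.X i)) := restrict_flat φ hφ hfl i
    by_cases hia : i = a
    · subst hia
      refine ⟨?_, ?_⟩
      · show Module.FinitePresentation A (E.X i ⧸ killSub E i i)
        rw [killSub, if_neg hlt, if_pos rfl]
        haveI := Module.finitePresentation_of_projective A (E.X i)
        haveI := (hE (i - 1)).1
        refine Module.finitePresentation_of_surjective _ (Submodule.mkQ_surjective _) ?_
        rw [Submodule.ker_mkQ]
        exact Submodule.fg_range _
      · have hfc := flat_coker ((DRing.restrictCx φ).obj E) i (restrict_flat φ hφ hfl i)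
          fun M => hex M (i - 1) (Or.inl (by omega))
        let g := (((DRing.restrictCx φ).map (cutπ E i)).f i).hom
        have hk : killSub E i i = LinearMap.range (E.d (i - 1) i).hom := by rw [killSub, if_neg hlt, if_pos rfl]
        have hker : LinearMap.ker g = LinearMap.range (((DRing.restrictCx φ).obj E).d (i - 1) i).hom :=
          Submodule.ext fun y => by
            refine (Submodule.Quotient.mk_eq_zero (killSub E i i) (x := (show E.X i from y))).trans ?_
            rw [hk]
            exact Iff.rfl
        exact Module.Flat.of_linearEquiv ((Submodule.quotEquivOfEq _ _ hker.symm).trans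
          (LinearMap.quotKerEquivOfSurjective g (Submodule.mkQ_surjective (killSub E i i)))).symm
    · let q : ((cut E a).X i) ≃ₗ[A] E.X i :=
        Submodule.quotEquivOfEqBot _ (by rw [killSub, if_neg hlt, if_neg hia])
      let f : ((ModuleCat.restrictScalars.{u} φ).obj ((cut E a).X i)) ≃ₗ[R]
          ((ModuleCat.restrictScalars.{u} φ).obj (E.X i)) :=
        { q.toAddEquiv with map_smul' := fun r x => q.map_smul (φ r) x }
      haveI := Module.finitePresentation_of_projective A (E.X i)
      exact ⟨Module.FinitePresentation.of_equiv q.symm, Module.Flat.of_linearEquiv f⟩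

end

end Groth.Agent.DRingAmp
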