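import Groth.Agent.DRingAmp.Proj
import Groth.Agent.DRingAmp.Regular
import Groth.Agent.DRingTorAmp.Devissage
import Groth.Agent.CAlgReg.GlobalDim

/-!
# Vanishing of morphisms over regular rings of finite dimension
-/

universe u

open CategoryTheory Limits Pretriangulated

namespace Groth.Agent.DRingAmp

attribute [local instance] HasDerivedCategory.standard

set_option linter.style.haveILetI false

open Groth.Agent.DRingTorAmp Groth.Agent.CAlgReg

variable {R : Type u} [CommRing R] [IsNoetherianRing R]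

theorem pdLT_of_pdLocus : ∀ (n : ℕ) (M : Type u) [AddCommGroup M] [Module R M] [Module.Finite R M],
    pdLocus (R := R) n M = Set.univ → PdLT R M (n + 1)
  | 0, M, _, _, _, h => by
    haveI := Module.finitePresentation_of_finite R M
    haveI : Module.Projective R M := (Module.freeLocus_eq_univ_iff (R := R) (M := M)).1
      (Set.eq_univ_iff_forall.2 fun p => by
        rw [Module.mem_freeLocus_iff_tensor p (Localization.AtPrime p.asIdeal)]
        haveI := projective_of_pdLT_one (Set.eq_univ_iff_forall.1 h p)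
        exact Module.free_of_flat_of_isLocalRing)
    exact pdLT_one
  | n + 1, M, _, _, _, h => by
    obtain ⟨k, g, hg⟩ := Module.Finite.exists_fin' R M
    exact pdLT_right (LinearMap.ker g).subtype g Subtype.val_injective (LinearMap.exact_subtype_ker_map g) hg
      (pdLT_of_pdLocus n (LinearMap.ker g)
        (Set.eq_univ_iff_forall.2 fun p => (mem_pdLocus_ker g hg p).1 (Set.eq_univ_iff_forall.1 h p)))

theorem pdLT_of_regular (hreg : ∀ p : PrimeSpectrum R, IsRegularLocalRing (Localization.AtPrime p.asIdeal))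
    {d : ℕ} (hd : ringKrullDim R = d) (M : Type u) [AddCommGroup M] [Module R M] : PdLT R M (d + 1) := by
  refine HasProjectiveDimensionLT.mk fun i hi L e => ?_
  obtain ⟨n, rfl⟩ : ∃ n, i = n + 1 := ⟨i - 1, by omega⟩
  refine @Subsingleton.elim _ (subsingleton_ext_of_forall_quotient n L (fun I => ?_) _) e 0
  refine @HasProjectiveDimensionLT.subsingleton _ _ _ _ (ModuleCat.of R (R ⧸ I)) (d + 1) ?_ (n + 1) hi L
  refine pdLT_of_pdLocus d (R ⧸ I) (Set.eq_univ_iff_forall.2 fun p => ?_)
  haveI := hreg p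
  have hle : ringKrullDim (Localization.AtPrime p.asIdeal) ≤ d :=
    hd ▸ (IsLocalization.AtPrime.ringKrullDim_eq_height p.asIdeal (Localization.AtPrime p.asIdeal)).le.trans
      (Ideal.height_le_ringKrullDim_of_isPrime)
  have he := (dim_eq_spanFinrank (R := Localization.AtPrime p.asIdeal))
  refine pdLT_mono ?_ (pdLT_of_isRegularLocalRing he _)
  rw [he] at hle
  exact Nat.succ_le_succ (Nat.cast_le.1 hle)

omit [IsNoetherianRing R] in
theorem subsingleton_hom_single {d : ℕ} {M N : ModuleCat.{u} R} (hd : HasProjectiveDimensionLT M (d + 1))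
    (j : ℤ) (hj : (d : ℤ) < j) :
    Subsingleton ((DerivedCategory.singleFunctor (ModuleCat.{u} R) 0).obj M ⟶
      ((DerivedCategory.singleFunctor (ModuleCat.{u} R) 0).obj N)⟦j⟧) := by
  obtain ⟨n, rfl⟩ : ∃ n : ℕ, j = n := ⟨j.toNat, by omega⟩
  haveI : Subsingleton (Abelian.Ext M N n) := HasProjectiveDimensionLT.subsingleton M (d + 1) n (by omega) N
  exact Abelian.Ext.homEquiv.symm.subsingleton

theorem subsingleton_hom_gap (hreg : ∀ p : PrimeSpectrum R, IsRegularLocalRing (Localization.AtPrime p.asIdeal))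
    (d : ℕ) (hd : ringKrullDim R = d) (K L : Dual.D R)
    (hKb : ∃ b : ℤ, ∀ i : ℤ, b < i → Subsingleton (Dual.HD R K i)) (k : ℤ)
    (hK : ∀ i : ℤ, i ≤ k → Subsingleton (Dual.HD R K i))
    (hL : ∀ i : ℤ, k - d + 1 ≤ i → Subsingleton (Dual.HD R L i)) :
    Subsingleton (K ⟶ L) := by
  obtain ⟨b, hb⟩ := hKb
  obtain ⟨hge, hle⟩ := isGE_isLE_of_bounded (K := K) (c := k + 1) (d := b) fun i hi =>
    hi.elim (fun h => hK i (by omega)) (hb i)
  haveI := hge
  haveI := hle
  let a := k + 1 - (d : ℤ)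
  have hX : ∀ (N : Type u) [AddCommGroup N] [Module R N], Subsingleton (K ⟶ (Dual.inD R N)⟦-a + 1⟧) := by
    intro N _ _
    let P : ObjectProperty (Dual.D R) := fun X => Subsingleton (X ⟶ (Dual.inD R N)⟦-a + 1⟧)
    haveI : P.IsClosedUnderIsomorphisms := ⟨fun {X Y} e (h : Subsingleton _) =>
      (e.symm.homCongr (Iso.refl _)).subsingleton⟩
    refine DerCat.prop_of_single P (fun Z hZ => ⟨fun x y => hZ.eq_of_src x y⟩) (fun T hT h₁ h₃ => ?_) K (k + 1) b
      (fun i h1 _ => ?_)
    · refine subsingleton_of_forall_eq 0 fun φ => ?_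
      obtain ⟨ψ, hψ⟩ := Triangle.yoneda_exact₂ T hT φ (h₁.elim _ _)
      rw [hψ, h₃.elim ψ 0, comp_zero]
    · let H := ModuleCat.of R (Dual.HD R K i)
      haveI := subsingleton_hom_single (N := ModuleCat.of R N) (pdLT_of_regular hreg hd H) (-a + 1 + i) (by omega)
      let F := shiftFunctor (Dual.D R) i
      refine ⟨fun x y => F.map_injective ?_⟩
      let e₁ : F.obj ((DerivedCategory.singleFunctor (ModuleCat.{u} R) i).obj H) ≅
          (DerivedCategory.singleFunctor (ModuleCat.{u} R) 0).obj H :=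
        F.mapIso (DerCat.singleShiftIso i H).symm ≪≫ (shiftFunctorCompIsoId (Dual.D R) (-i) i (by omega)).app _
      let e₂ : F.obj ((Dual.inD R N)⟦-a + 1⟧) ≅ (Dual.inD R N)⟦-a + 1 + i⟧ :=
        (shiftFunctorAdd' (Dual.D R) (-a + 1) i (-a + 1 + i) rfl).symm.app _
      rw [← cancel_epi e₁.inv, ← cancel_mono e₂.hom]
      exact Subsingleton.elim _ _
  obtain ⟨P, hP, hp, ⟨e⟩⟩ := exists_projective_rep (a := a) (b := b)
    (fun n hn => hn.elim (fun h => hK n (by omega)) (hb n)) hX
  exact subsingleton_hom hP hp e fun i hi => hL i (by omega)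

end Groth.Agent.DRingAmp
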