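import Groth.Agent.DRingAmp.Split
import Groth.Agent.DRingAmp.Regular
import Groth.Agent.DualCx.AtPrime
import Groth.Agent.BCModel.Algebra
import Mathlib.Algebra.Category.ModuleCat.Ext.HasExt

/-!
# Splitting over regular rings of finite dimension
-/

set_option linter.style.haveILetI false

universe u

open CategoryTheory Limits Pretriangulated TensorProduct

namespace Groth.Agent.DRingAmp

attribute [local instance] HasDerivedCategory.standard

open Groth.Agent.DRingTorAmp Groth.Agent.CAlgReg

variable {R : Type u} [CommRing R] [IsNoetherianRing R]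

local notation "tR" => (DerivedCategory.TStructure.t : Triangulated.TStructure (Dual.D R))

theorem pdLT_of_pdLocus_univ : ∀ (n : ℕ) (M : Type u) [AddCommGroup M] [Module R M] [Module.Finite R M],
    pdLocus (R := R) n M = Set.univ → PdLT R M (n + 1)
  | 0, M, _, _, _, h => by
    haveI := Module.finitePresentation_of_finite R M
    haveI : Module.Projective R M := (Module.freeLocus_eq_univ_iff (R := R) (M := M)).1
      (Set.eq_univ_iff_forall.2 fun p => by
        rw [Module.mem_freeLocus_iff_tensor p (Localization.AtPrime p.asIdeal)]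
        haveI := projective_of_pdLT_one (Set.eq_univ_iff_forall.1 h p)
        exact Module.free_of_flat_of_isLocalRing)
    exact pdLT_one
  | n + 1, M, _, _, _, h => by
    obtain ⟨k, g, hg⟩ := Module.Finite.exists_fin' R M
    exact pdLT_right _ g (Submodule.injective_subtype _) (LinearMap.exact_subtype_ker_map g) hg
      (pdLT_of_pdLocus_univ n (LinearMap.ker g)
        (Set.eq_univ_iff_forall.2 fun p => (mem_pdLocus_ker g hg p).1 (Set.eq_univ_iff_forall.1 h p)))

theorem pdLT_of_regular (hreg : ∀ p : PrimeSpectrum R, IsRegularLocalRing (Localization.AtPrime p.asIdeal))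
    (d : ℕ) (hd : ringKrullDim R ≤ d) (M : Type u) [AddCommGroup M] [Module R M] [Module.Finite R M] :
    PdLT R M (d + 1) := by
  refine pdLT_of_pdLocus_univ d M (Set.eq_univ_iff_forall.2 fun p => ?_)
  haveI := hreg p
  obtain ⟨e, he⟩ : ∃ e : ℕ, p.asIdeal.height = e :=
    ⟨_, (ENat.natCast_toNat (Ideal.height_ne_top p.isPrime.ne_top)).symm⟩
  have hed : e ≤ d := by
    have h1 := (Ideal.height_le_ringKrullDim_of_ne_top p.isPrime.ne_top).trans hd
    rw [he] at h1
    exact_mod_cast h1
  refine pdLT_mono (by omega : e + 1 ≤ d + 1) (pdLT_of_isRegularLocalRing ?_ _)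
  rw [IsLocalization.AtPrime.ringKrullDim_eq_height p.asIdeal, he]
  rfl

/-- Splitting across a gap of length `d - 1`. -/
theorem exists_biprod_of_gap (hreg : ∀ p : PrimeSpectrum R, IsRegularLocalRing (Localization.AtPrime p.asIdeal))
    (d : ℕ) (hd1 : 1 ≤ d) (hd : ringKrullDim R ≤ d) (K : Dual.D R) (hK : DRing.IsPerfect R K) (k : ℤ)
    (hgap : ∀ i : ℤ, k - d + 2 ≤ i → i ≤ k → Subsingleton (Dual.HD R K i))
    [HasBinaryBiproduct (((tR).truncLT (k - d + 2)).obj K) (((tR).truncGE (k + 1)).obj K)] :
    ∃ e : K ≅ ((tR).truncLT (k - d + 2)).obj K ⊞ ((tR).truncGE (k + 1)).obj K,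
      ((tR).truncLTι (k - d + 2)).app K ≫ e.hom = biprod.inl ∧
        e.hom ≫ biprod.snd = ((tR).truncGEπ (k + 1)).app K := by
  obtain ⟨E, a₀, b₀, hE, hEfp, ⟨eE⟩⟩ := hK
  set L := ((tR).truncGE (k + 1)).obj K
  set a : ℤ := k + 1 - d
  have hHK : ∀ i : ℤ, i < a₀ ∨ b₀ < i → Subsingleton (Dual.HD R K i) := fun i hi =>
    (subsingleton_HD_congr eE i).1 ((subsingleton_HD_iff E i).2
      (ShortComplex.exact_of_isZero_X₂ _ (hE i hi)))
  have hfinK : ∀ i, Module.Finite R (Dual.HD R K i) := fun i => by
    haveI := (hEfp i).1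
    haveI := BCModel.finite_homology E i
    haveI : Module.Finite R ↥((HomologicalComplex.homologyFunctor (ModuleCat.{u} R) (ComplexShape.up ℤ) i).obj E) :=
      inferInstanceAs (Module.Finite R ↥(E.homology i))
    exact Module.Finite.equiv (((DerivedCategory.homologyFunctorFactors _ i).app E).symm ≪≫
      (DerivedCategory.homologyFunctor (ModuleCat.{u} R) i).mapIso eE).toLinearEquiv
  set b : ℤ := max b₀ (k + 1)
  have hiso : ∀ i, k < i → IsIso ((DerivedCategory.homologyFunctor (ModuleCat.{u} R) i).map (((tR).truncGEπ (k + 1)).app K)) :=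
    fun i hi => DerCat.isIso_homology_truncGTπ K k i hi
  have hL : ∀ n : ℤ, n < k + 1 ∨ b < n → Subsingleton (Dual.HD R L n) := by
    rintro n (hn | hn)
    · exact (isZero_HD_iff L n).1 (DerivedCategory.isZero_of_isGE L (k + 1) n hn)
    · haveI := hiso n (by omega)
      exact (isZero_HD_iff L n).1 (((isZero_HD_iff K n).2 (hHK n (Or.inr (by omega)))).of_iso
        (asIso ((DerivedCategory.homologyFunctor (ModuleCat.{u} R) n).map (((tR).truncGEπ (k + 1)).app K))).symm)
  have hX : ∀ (N : Type u) [AddCommGroup N] [Module R N], Subsingleton (L ⟶ (Dual.inD R N)⟦-a + 1⟧) := by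
    intro N _ _
    haveI : L.IsLE b := by
      rw [DerivedCategory.isLE_iff]
      exact fun i hi => (isZero_HD_iff L i).2 (hL i (Or.inr hi))
    let Q : ObjectProperty (Dual.D R) := fun Z => Subsingleton (Z ⟶ (Dual.inD R N)⟦-a + 1⟧)
    haveI : Q.IsClosedUnderIsomorphisms := ⟨fun {X Y} e hX => @Equiv.subsingleton _ _ (e.symm.homFromEquiv) hX⟩
    refine DerCat.prop_of_single Q (fun Z hZ => ⟨fun f g => hZ.eq_of_src f g⟩) (fun T hT h1 h3 => ?_) L (k + 1) b
      fun j hj _ => ?_
    · refine subsingleton_of_forall_eq 0 fun g => ?_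
      obtain ⟨y, rfl⟩ := Triangle.yoneda_exact₂ T hT g (@Subsingleton.elim _ h1 _ _)
      rw [@Subsingleton.elim _ h3 y 0, comp_zero]
    · obtain ⟨n, hn⟩ : ∃ n : ℕ, -a + 1 + j = n := ⟨(-a + 1 + j).toNat, by omega⟩
      haveI : Module.Finite R ((DerivedCategory.homologyFunctor (ModuleCat.{u} R) j).obj L) := by
        haveI := hiso j (by omega)
        haveI : Module.Finite R ↥((DerivedCategory.homologyFunctor (ModuleCat.{u} R) j).obj
            ((𝟭 (Dual.D R)).obj K)) := hfinK j
        exact Module.Finite.equiv (asIso ((DerivedCategory.homologyFunctor (ModuleCat.{u} R) j).map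
          (((tR).truncGEπ (k + 1)).app K))).toLinearEquiv
      haveI hH : HasProjectiveDimensionLT ((DerivedCategory.homologyFunctor (ModuleCat.{u} R) j).obj L) (d + 1) :=
        pdLT_of_regular hreg d hd ((DerivedCategory.homologyFunctor (ModuleCat.{u} R) j).obj L)
      have h0 : Subsingleton (Abelian.Ext.{u} ((DerivedCategory.homologyFunctor (ModuleCat.{u} R) j).obj L) (ModuleCat.of R N) n) :=
        HasProjectiveDimensionLT.subsingleton _ (d + 1) n (by omega) _
      have h1 : Subsingleton (DualCx.T (Dual.inD R N) (-a + 1 + j) ((DerivedCategory.homologyFunctor (ModuleCat.{u} R) j).obj L)) := by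
        rw [hn]
        exact (Abelian.Ext.homEquiv (C := ModuleCat.{u} R)).symm.subsingleton
      exact (DualCx.singleEquiv (ω := Dual.inD R N) j (-a + 1) _).toEquiv.subsingleton
  obtain ⟨P, hP, hp, ⟨e⟩⟩ := exists_projective_rep (K := L) (a := a) (b := b)
    (fun n hn => hL n (hn.imp_left (by omega))) hX
  have hT := (tR).triangleLTGE_distinguished (k + 1) K
  set w := ((tR).natTransTruncLTOfLE (k - d + 2) (k + 1) (by omega)).app K
  have hι : w ≫ ((tR).truncLTι (k + 1)).app K = ((tR).truncLTι (k - d + 2)).app K :=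
    (tR).natTransTruncLTOfLE_ι_app (k - d + 2) (k + 1) (by omega) K
  haveI : IsIso w := by
    rw [DerivedCategory.isIso_iff]
    intro i
    haveI : ((tR).truncLT (k - d + 2)).obj K |>.IsLE (k - d + 1) := (tR).isLE_truncLT_obj K (k - d + 2) (k - d + 1)
    haveI : ((tR).truncLT (k + 1)).obj K |>.IsLE k := (tR).isLE_truncLT_obj K (k + 1) k
    by_cases hi : i < k - d + 2
    · have hA : IsIso ((DerivedCategory.homologyFunctor (ModuleCat.{u} R) i).map (((tR).truncLTι (k - d + 2)).app K)) := by
        rw [show k - (d : ℤ) + 2 = k - d + 1 + 1 by omega]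
        exact DerCat.isIso_homology_truncLEι K (k - d + 1) i (by omega)
      haveI : IsIso ((DerivedCategory.homologyFunctor (ModuleCat.{u} R) i).map (((tR).truncLTι (k + 1)).app K)) :=
        DerCat.isIso_homology_truncLEι K k i (by omega)
      rw [← hι, Functor.map_comp] at hA
      exact IsIso.of_isIso_comp_right _
        ((DerivedCategory.homologyFunctor (ModuleCat.{u} R) i).map (((tR).truncLTι (k + 1)).app K))
    · refine isIso_of_source_target_iso_zero _
        (IsZero.isoZero (DerivedCategory.isZero_of_isLE (((tR).truncLT (k - d + 2)).obj K) (k - d + 1) i (by omega)))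
        (IsZero.isoZero ?_)
      by_cases hik : k < i
      · exact DerivedCategory.isZero_of_isLE (((tR).truncLT (k + 1)).obj K) k i hik
      · haveI : IsIso ((DerivedCategory.homologyFunctor (ModuleCat.{u} R) i).map (((tR).truncLTι (k + 1)).app K)) :=
          DerCat.isIso_homology_truncLEι K k i (by omega)
        exact ((isZero_HD_iff K i).2 (hgap i (by omega) (by omega))).of_iso
          (asIso ((DerivedCategory.homologyFunctor (ModuleCat.{u} R) i).map (((tR).truncLTι (k + 1)).app K)))
  -- the connecting map vanishes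
  have hz : Subsingleton (L ⟶ (((tR).truncLT (k + 1)).obj K)⟦(1 : ℤ)⟧) :=
    subsingleton_hom hP hp e fun i hi => by
      haveI : ((tR).truncLT (k - d + 2)).obj K |>.IsLE (k - d + 1) := (tR).isLE_truncLT_obj K (k - d + 2) (k - d + 1)
      have hw : IsZero ((DerivedCategory.homologyFunctor (ModuleCat.{u} R) (1 + i)).obj (((tR).truncLT (k + 1)).obj K)) :=
        (DerivedCategory.isZero_of_isLE (((tR).truncLT (k - d + 2)).obj K) (k - d + 1) (1 + i) (by omega)).of_iso
          ((DerivedCategory.homologyFunctor (ModuleCat.{u} R) (1 + i)).mapIso (asIso w)).symm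
      haveI : Subsingleton (((DerivedCategory.homologyFunctor (ModuleCat.{u} R) 0).shift (1 + i)).obj
          (((tR).truncLT (k + 1)).obj K)) := (isZero_HD_iff _ (1 + i)).1 hw
      exact (((DerivedCategory.homologyFunctor (ModuleCat.{u} R) 0).shiftIso 1 i (1 + i) rfl).app
        _).toLinearEquiv.toEquiv.subsingleton
  haveI : HasBinaryBiproduct (((tR).truncLT (k + 1)).obj K) (((tR).truncGE (k + 1)).obj K) :=
    HasBinaryBiproducts.has_binary_biproduct _ _
  obtain ⟨e', h1, h2⟩ : ∃ e' : K ≅ ((tR).truncLT (k + 1)).obj K ⊞ ((tR).truncGE (k + 1)).obj K,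
      ((tR).truncLTι (k + 1)).app K ≫ e'.hom = biprod.inl ∧
        e'.hom ≫ biprod.snd = ((tR).truncGEπ (k + 1)).app K := by
    obtain ⟨e', h1, h2⟩ := exists_iso_binaryBiproduct_of_distTriang _ hT (hz.elim _ _)
    exact ⟨e', h1, h2.symm⟩
  refine ⟨e' ≪≫ biprod.mapIso (asIso w).symm (Iso.refl _), ?_, ?_⟩
  · rw [← hι, Category.assoc, Iso.trans_hom, reassoc_of% h1]
    simp
  · rw [Iso.trans_hom, Category.assoc]
    simpa using h2

end Groth.Agent.DRingAmp
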