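import Groth.Agent.DRingTorAmp.Devissage
import Groth.Agent.DRingTorAmp.Amplitude
import Groth.Agent.DRingComplete.ProjHom
import Groth.Agent.DerCat.KInjProducts
import Groth.Agent.DTenLib.PCEval
import Mathlib.Algebra.Category.ModuleCat.EnoughInjectives

/-!
# Injective amplitude
-/

universe u

open CategoryTheory Limits Pretriangulated

namespace Groth.Agent.DRingAmp

attribute [local instance] HasDerivedCategory.standard

set_option linter.style.haveILetI false

variable {R : Type u} [CommRing R]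

open Groth.Agent.DRingTorAmp

theorem subsingleton_ext_of_injAmp {K : Dual.D R} {a b : ℤ} (h : DRing.HasInjAmplitudeIn R a b K)
    (N : Type u) [AddCommGroup N] [Module R N] (i : ℤ) (hi : i < a ∨ b < i) :
    Subsingleton (DRing.ExtD R (Dual.inD R N) K i) := by
  obtain ⟨E, hE, hI, ⟨e⟩⟩ := h
  refine subsingleton_of_forall_eq 0 fun φ => ?_
  rcases hi with hi | hi
  · haveI : K.IsGE a := by
      rw [DerivedCategory.isGE_iff]
      exact fun j hj => (isZero_HD_iff K j).2 ((subsingleton_HD_congr e j).1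
        ((subsingleton_HD_iff E j).2 (ShortComplex.exact_of_isZero_X₂ _ (hE j (Or.inl hj)))))
    have h1 : DerivedCategory.TStructure.t.IsLE (Dual.inD R N) 0 :=
      inferInstanceAs (((DerivedCategory.singleFunctor (ModuleCat.{u} R) 0).obj (ModuleCat.of R N)).IsLE 0)
    haveI : DerivedCategory.TStructure.t.IsGE K a := ‹K.IsGE a›
    have h2 := DerivedCategory.TStructure.t.isGE_shift K a i (a - i) (by omega)
    exact DerivedCategory.TStructure.t.zero_of_isLE_of_isGE φ 0 (a - i) (by omega) h1 h2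
  · haveI : (Dual.inD R N).IsGE (b - i + 1) := by
      haveI : (Dual.inD R N).IsGE 0 :=
        inferInstanceAs (((DerivedCategory.singleFunctor (ModuleCat.{u} R) 0).obj (ModuleCat.of R N)).IsGE 0)
      exact DerivedCategory.TStructure.t.isGE_of_ge (Dual.inD R N) (b - i + 1) 0 (by omega)
    exact DTenLib.eq_zero_of_injective (E := E⟦i⟧) (a := a - i) (b := b - i) (fun j hj => hE (j + i) (by omega))
      (fun j => hI (j + i)) ((DerivedCategory.Q.commShiftIso i).app E ≪≫ (shiftFunctor (Dual.D R) i).mapIso e) φ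

theorem subsingleton_HD_of_hom {K : Dual.D R} (i : ℤ)
    (h : Subsingleton (DRing.ExtD R (Dual.inD R R) K i)) : Subsingleton (Dual.HD R K i) := by
  haveI : Projective (ModuleCat.of R R) := (IsProjective.iff_projective R).1 inferInstance
  have hb := DRingComplete.homology_map_bijective (ModuleCat.of R R) (K⟦i⟧)
  have hs : Subsingleton ((DerivedCategory.homologyFunctor (ModuleCat.{u} R) 0).obj (Dual.inD R R) ⟶
      (DerivedCategory.homologyFunctor (ModuleCat.{u} R) 0).obj (K⟦i⟧)) :=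
    ⟨fun x y => by
      obtain ⟨x', rfl⟩ := hb.2 x
      obtain ⟨y', rfl⟩ := hb.2 y
      exact congrArg _ (h.elim x' y')⟩
  let eH : (DerivedCategory.homologyFunctor (ModuleCat.{u} R) 0).obj (K⟦i⟧) ≅ ModuleCat.of R (Dual.HD R K i) :=
    ((DerivedCategory.homologyFunctor (ModuleCat.{u} R) 0).shiftIso i 0 i (add_zero i)).app K
  let eR : (DerivedCategory.homologyFunctor (ModuleCat.{u} R) 0).obj (Dual.inD R R) ≅ ModuleCat.of R R :=
    DerCat.homologySingleIso 0 (ModuleCat.of R R)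
  refine ⟨fun x y => ?_⟩
  have := hs.elim (eR.hom ≫ ModuleCat.ofHom (LinearMap.toSpanSingleton R _ x) ≫ eH.inv)
    (eR.hom ≫ ModuleCat.ofHom (LinearMap.toSpanSingleton R _ y) ≫ eH.inv)
  rw [cancel_epi, cancel_mono] at this
  simpa using congrArg (fun t => t.hom (1 : R)) this

theorem exists_eq_d {L : DRing.Cx R} [L.IsKInjective] {K : Dual.D R} (e : DRing.toD L ≅ K)
    (M : ModuleCat.{u} R) (m n : ℤ) (hmn : m + 1 = n) (h : Subsingleton (DRing.ExtD R (Dual.inD R M) K n))
    (ψ : M ⟶ L.X n) (hψ : ψ ≫ L.d n (n + 1) = 0) : ∃ g : M ⟶ L.X m, g ≫ L.d m n = ψ := by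
  let S := (HomologicalComplex.single (ModuleCat.{u} R) (ComplexShape.up ℤ) n).obj M
  let f : S ⟶ L := HomologicalComplex.mkHomFromSingle ψ fun k hk => by
    obtain rfl : n + 1 = k := hk
    exact hψ
  let F := shiftFunctor (Dual.D R) n
  let e₁ : F.obj (DerivedCategory.Q.obj S) ≅ Dual.inD R M :=
    F.mapIso ((singleQIso n M).symm ≪≫ (DerCat.singleShiftIso n M).symm) ≪≫
      (shiftFunctorCompIsoId (Dual.D R) (-n) n (by omega)).app _
  have h0 : DerivedCategory.Q.map f = DerivedCategory.Q.map 0 := by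
    apply F.map_injective
    rw [← cancel_epi e₁.inv, ← cancel_mono (F.map e.hom)]
    exact h.elim _ _
  obtain ⟨H⟩ := (DerCat.Q_map_eq_iff _ _).1 h0
  refine ⟨(HomologicalComplex.singleObjXSelf (ComplexShape.up ℤ) n M).inv ≫ H.hom n m, ?_⟩
  have hc := H.comm n
  rw [dNext_eq _ (show (ComplexShape.up ℤ).Rel n (n + 1) from rfl),
    prevD_eq _ (show (ComplexShape.up ℤ).Rel m n from hmn)] at hc
  simp only [HomologicalComplex.zero_f, sub_zero, add_zero] at hc
  have hd : S.d n (n + 1) = 0 := HomologicalComplex.single_obj_d ..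
  rw [hd, zero_comp, zero_add] at hc
  rw [Category.assoc, ← hc, HomologicalComplex.mkHomFromSingle_f]
  exact Iso.inv_hom_id_assoc _ _

theorem injective_ker {L : DRing.Cx R} [L.IsKInjective] {K : Dual.D R} (e : DRing.toD L ≅ K) (b : ℤ)
    (hL : Module.Injective R (L.X b))
    (h : ∀ I : Ideal R, Subsingleton (DRing.ExtD R (Dual.inD R (R ⧸ I)) K (b + 1))) :
    Module.Injective R (LinearMap.ker (L.d b (b + 1)).hom) := by
  refine Module.Baer.injective fun I φ => ?_
  obtain ⟨φ', hφ'⟩ := Module.Baer.of_injective hL I ((LinearMap.ker (L.d b (b + 1)).hom).subtype ∘ₗ φ)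
  let y := L.d b (b + 1) (φ' 1)
  have hy : ∀ r ∈ I, r • y = 0 := fun r hr => by
    show r • (L.d b (b + 1)).hom (φ' 1) = 0
    rw [← map_smul, ← map_smul, smul_eq_mul, mul_one, hφ' r hr]
    exact (φ ⟨r, hr⟩).2
  let ψ : ModuleCat.of R (R ⧸ I) ⟶ L.X (b + 1) := ModuleCat.ofHom
    (Submodule.liftQ I (LinearMap.toSpanSingleton R _ y) fun r hr => hy r hr)
  obtain ⟨g, hg⟩ := exists_eq_d e (ModuleCat.of R (R ⧸ I)) b (b + 1) rfl (h I) ψ (ModuleCat.hom_ext
    (Submodule.linearMap_qext _ (LinearMap.ext_ring (by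
      show L.d (b + 1) (b + 1 + 1) ((1 : R) • L.d b (b + 1) (φ' 1)) = 0
      rw [one_smul, ← ModuleCat.comp_apply, L.d_comp_d]
      rfl))))
  obtain ⟨g', hg'⟩ : ∃ g' : (R ⧸ I) →ₗ[R] L.X b, ∀ x, L.d b (b + 1) (g' x) = ψ x :=
    ⟨g.hom, fun x => LinearMap.congr_fun (congrArg ModuleCat.Hom.hom hg) x⟩
  let x' := g' (Submodule.Quotient.mk 1)
  have hx' : φ' 1 - x' ∈ LinearMap.ker (L.d b (b + 1)).hom := by
    rw [LinearMap.mem_ker, map_sub, sub_eq_zero]
    refine Eq.trans ?_ (hg' _).symm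
    show y = (1 : R) • y
    rw [one_smul]
  refine ⟨LinearMap.toSpanSingleton R _ ⟨_, hx'⟩, fun r hr => Subtype.ext ?_⟩
  show r • (φ' 1 - x') = (φ ⟨r, hr⟩ : L.X b)
  have h0 : r • x' = 0 := by
    show r • g' (Submodule.Quotient.mk 1) = 0
    rw [← map_smul, ← Submodule.Quotient.mk_smul, smul_eq_mul, mul_one,
      (Submodule.Quotient.mk_eq_zero I).2 hr, map_zero]
  rw [smul_sub, h0, sub_zero, ← map_smul, smul_eq_mul, mul_one, hφ' r hr]
  rfl

theorem injAmp_of_ext (K : Dual.D R) (a b : ℤ)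
    (h : ∀ (I : Ideal R) (i : ℤ), (i < a ∨ b < i) → Subsingleton (DRing.ExtD R (Dual.inD R (R ⧸ I)) K i)) :
    DRing.HasInjAmplitudeIn R a b K := by
  have hH : ∀ i, (i < a ∨ b < i) → Subsingleton (Dual.HD R K i) := fun i hi => by
    refine subsingleton_HD_of_hom i ?_
    let e : Dual.inD R R ≅ Dual.inD R (R ⧸ (⊥ : Ideal R)) :=
      (DerivedCategory.singleFunctor (ModuleCat.{u} R) 0).mapIso
        (Submodule.quotEquivOfEqBot (⊥ : Submodule R R) rfl).symm.toModuleIso
    haveI := h ⊥ i hi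
    exact (e.homCongr (Iso.refl (K⟦i⟧))).subsingleton
  haveI : K.IsGE a := by
    rw [DerivedCategory.isGE_iff]
    exact fun j hj => (isZero_HD_iff K j).2 (hH j (Or.inl hj))
  obtain ⟨K₀, _, ⟨e₀⟩⟩ := DerivedCategory.exists_iso_Q_obj_of_isGE K a
  obtain ⟨L, i, hi, hLinj, hLge⟩ := CochainComplex.Plus.modelCategoryQuillen.exists_quasiIso_injective K₀ a
  haveI := hi
  haveI := hLinj
  haveI := hLge
  haveI : L.IsKInjective := CochainComplex.isKInjective_of_injective L a
  haveI : IsIso (DerivedCategory.Q.map i) := (DerivedCategory.isIso_Q_map_iff_quasiIso _ i).2 hi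
  let e : DRing.toD L ≅ K := (asIso (DerivedCategory.Q.map i)).symm ≪≫ e₀.symm
  have hex : ∀ j, b < j → L.ExactAt j := fun j hj =>
    (subsingleton_HD_iff L j).1 ((subsingleton_HD_congr e j).2 (hH j (Or.inr hj)))
  have hmod : ∀ j, Module.Injective R (L.X j) := fun j =>
    (Module.injective_iff_injective_object R (L.X j)).2 (hLinj j)
  haveI := quasiIso_capι (E := L) (n := b) hex
  haveI : IsIso (DerivedCategory.Q.map (capι L b)) := (DerivedCategory.isIso_Q_map_iff_quasiIso _ _).2 inferInstance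
  refine ⟨cap L b, fun j hj => cap_isZero (hj.symm.imp_right fun hj => CochainComplex.isZero_of_isStrictlyGE L a j hj),
    fun j => ?_, ⟨asIso (DerivedCategory.Q.map (capι L b)) ≪≫ e⟩⟩
  show Module.Injective R (capSub L b j)
  rcases lt_trichotomy j b with hj | rfl | hj
  · haveI := hmod j
    rw [show capSub L b j = ⊤ by rw [capSub, if_pos hj]]
    exact Module.Baer.injective ((Module.Baer.of_injective (hmod j)).of_equiv Submodule.topEquiv.symm)
  · rw [show capSub L j j = LinearMap.ker (L.d j (j + 1)).hom by rw [capSub, if_neg (lt_irrefl _), if_pos rfl]]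
    exact injective_ker e j (hmod j) fun I => h I (j + 1) (Or.inr (lt_add_one j))
  · have : Subsingleton (capSub L b j) := by
      rw [capSub, if_neg (by omega), if_neg (by omega)]
      infer_instance
    exact Module.Baer.injective fun I φ => ⟨0, fun r hr => Subsingleton.elim _ _⟩

theorem injAmp_tfae (K : Dual.D R) (a b : ℤ) :
    [DRing.HasInjAmplitudeIn R a b K,
      ∀ (N : Type u) [AddCommGroup N] [Module R N] (i : ℤ), (i < a ∨ b < i) →
        Subsingleton (DRing.ExtD R (Dual.inD R N) K i),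
      ∀ (I : Ideal R) (i : ℤ), (i < a ∨ b < i) → Subsingleton (DRing.ExtD R (Dual.inD R (R ⧸ I)) K i)].TFAE := by
  tfae_have 1 → 2 := fun h N _ _ i hi => subsingleton_ext_of_injAmp h N i hi
  tfae_have 2 → 3 := fun h I i hi => h (R ⧸ I) i hi
  tfae_have 3 → 1 := injAmp_of_ext K a b
  tfae_finish

/-- Objects of finite injective dimension. -/
def finInjProp : ObjectProperty (Dual.D R) := fun K => DRing.HasFiniteInjDim R K

instance : (finInjProp (R := R)).IsClosedUnderIsomorphisms :=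
  ⟨fun {K K'} e h => by obtain ⟨a, b, E, h1, h2, ⟨e'⟩⟩ := h; exact ⟨a, b, E, h1, h2, ⟨e' ≪≫ e⟩⟩⟩

theorem finInj_of_isZero {Z : Dual.D R} (hZ : IsZero Z) : DRing.HasFiniteInjDim R Z :=
  ⟨0, 0, injAmp_of_ext Z 0 0 fun I i _ =>
    ⟨fun x y => ((shiftFunctor (Dual.D R) i).map_isZero hZ).eq_of_tgt x y⟩⟩

theorem finInj_obj₂ (T : Triangle (Dual.D R)) (hT : T ∈ distTriang _)
    (h₁ : DRing.HasFiniteInjDim R T.obj₁) (h₃ : DRing.HasFiniteInjDim R T.obj₃) :
    DRing.HasFiniteInjDim R T.obj₂ := by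
  obtain ⟨a, b, hab⟩ := h₁
  obtain ⟨a', b', hab'⟩ := h₃
  refine ⟨min a a', max b b', injAmp_of_ext _ _ _ fun I i hi => subsingleton_of_forall_eq 0 fun φ => ?_⟩
  obtain ⟨ψ, hψ⟩ := Triangle.coyoneda_exact₂ _ (Triangle.shift_distinguished T hT i) φ
    ((subsingleton_ext_of_injAmp hab' (R ⧸ I) i (by omega)).elim _ _)
  obtain rfl : ψ = 0 := (subsingleton_ext_of_injAmp hab (R ⧸ I) i (by omega)).elim _ _
  rw [hψ]
  exact zero_comp

theorem finInj_single {M : Type u} [AddCommGroup M] [Module R M] (h : DRing.HasFiniteInjDim R (Dual.inD R M))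
    (n : ℤ) : DRing.HasFiniteInjDim R ((DerivedCategory.singleFunctor (ModuleCat.{u} R) n).obj (ModuleCat.of R M)) := by
  obtain ⟨a, b, E, hE, hI, ⟨e⟩⟩ := h
  obtain ⟨e'⟩ := shiftRep_iso e n
  exact ⟨a + n, b + n, E⟦-n⟧, fun i hi => hE (i + -n) (by omega), fun i => hI (i + -n), ⟨e'⟩⟩

theorem finInjDim_of_bounded (R : Type u) [CommRing R] :
    (∀ (K : Dual.D R), (∃ a b : ℤ, ∀ i : ℤ, (i < a ∨ b < i) → Subsingleton (Dual.HD R K i)) →
        (∀ i : ℤ, DRing.HasFiniteInjDim R (Dual.inD R (Dual.HD R K i))) → DRing.HasFiniteInjDim R K) ∧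
      (∀ (K : DRing.Cx R) (a b : ℤ), DRing.VanishesOutside K a b →
        (∀ i : ℤ, DRing.HasFiniteInjDim R (Dual.inD R (K.X i))) → DRing.HasFiniteInjDim R (DRing.toD K)) := by
  refine ⟨fun K hb hK => ?_, fun K a b hab hK => ?_⟩
  · obtain ⟨c, d, hcd⟩ := hb
    obtain ⟨_, _⟩ := isGE_isLE_of_bounded hcd
    exact DerCat.prop_of_single finInjProp (fun Z hZ => finInj_of_isZero hZ) (fun T hT => finInj_obj₂ T hT) K c d
      (fun i _ _ => finInj_single (hK i) i)
  · exact prop_of_terms finInjProp (fun Z hZ => finInj_of_isZero hZ) (fun T hT => finInj_obj₂ T hT)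
      (b + 1 - a).toNat K a (fun i hi => hab i (by omega)) (fun i => finInj_single (hK i) i)

end Groth.Agent.DRingAmp
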