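import Groth.Agent.DRingTorAmp.TorDim
import Mathlib.LinearAlgebra.TensorProduct.Quotient
import Mathlib.LinearAlgebra.Matrix.Charpoly.LinearMap

/-!
# Tor amplitude of pseudo-coherent complexes from the residue fields
-/

universe u

open CategoryTheory Limits
open scoped TensorProduct

namespace Groth.Agent.DRingAmp

attribute [local instance] HasDerivedCategory.standard

set_option linter.style.haveILetI false

open Groth.Agent.DRingTorAmp

variable {R : Type u} [CommRing R]

/-- An endomorphism of a finite module congruent to the identity modulo a prime ideal is invertible up to a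
scalar outside this prime. -/
theorem exists_comp_eq_smul {C : Type u} [AddCommGroup C] [Module R C] [Module.Finite R C] (I : Ideal R)
    [I.IsPrime] (u : Module.End R C) (hu : LinearMap.range (u - 1) ≤ I • ⊤) :
    ∃ (s : R) (w : Module.End R C), s ∉ I ∧ w * u = s • 1 := by
  obtain ⟨p, hp, -, hcoeff, hev⟩ :=
    LinearMap.exists_monic_and_natDegree_eq_and_coeff_mem_pow_and_aeval_eq_zero R (u - 1) I hu
  obtain ⟨q, hq⟩ : Polynomial.X - Polynomial.C (-1 : R) ∣ p - Polynomial.C (p.eval (-1)) :=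
    Polynomial.X_sub_C_dvd_sub_C_eval
  refine ⟨p.eval (-1), - Polynomial.aeval (u - 1) q, fun hmem => ?_, ?_⟩
  · rw [Polynomial.eval_eq_sum_range, Finset.sum_range_succ, hp.coeff_natDegree, one_mul] at hmem
    have h1 : ∑ k ∈ Finset.range p.natDegree, p.coeff k * (-1) ^ k ∈ I :=
      Ideal.sum_mem _ fun k hk => I.mul_mem_right _
        (Ideal.pow_le_self (by have := Finset.mem_range.1 hk; omega) (hcoeff k))
    have h2 : ((-1 : R)) ^ p.natDegree ∈ I := (Ideal.add_mem_iff_right _ h1).1 hmem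
    exact Ideal.IsPrime.ne_top ‹I.IsPrime›
      (Ideal.eq_top_of_isUnit_mem _ h2 (IsUnit.pow _ (isUnit_one.neg)))
  · have h := congrArg (Polynomial.aeval (u - 1)) hq
    rw [mul_comm] at h
    simp only [map_sub, map_mul, map_add, Polynomial.aeval_X, Polynomial.aeval_C, hev, zero_sub, map_neg, map_one,
      sub_neg_eq_add, sub_add_cancel] at h
    rw [neg_mul, ← h, neg_neg, Algebra.smul_def, mul_one]

/-- A map from a finite module to a projective module, injective modulo every maximal ideal, is split injective. -/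
theorem exists_retraction {C F : Type u} [AddCommGroup C] [Module R C] [Module.Finite R C] [AddCommGroup F]
    [Module R F] [Module.Projective R F] (f : C →ₗ[R] F)
    (h : ∀ m : Ideal R, m.IsMaximal → ∀ c, f c ∈ (m • ⊤ : Submodule R F) → c ∈ (m • ⊤ : Submodule R C)) :
    ∃ g : F →ₗ[R] C, g ∘ₗ f = LinearMap.id := by
  let J : Ideal R :=
    { carrier := {s | ∃ g : F →ₗ[R] C, g ∘ₗ f = s • LinearMap.id}
      zero_mem' := ⟨0, by simp⟩
      add_mem' := fun {a b} ⟨g, hg⟩ ⟨g', hg'⟩ => ⟨g + g', by rw [LinearMap.add_comp, hg, hg', add_smul]⟩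
      smul_mem' := fun c {a} ⟨g, hg⟩ => ⟨c • g, by rw [LinearMap.smul_comp, hg, smul_smul, smul_eq_mul]⟩ }
  have hJ : J = ⊤ := by
    by_contra hne
    obtain ⟨m, hm, hJm⟩ := Ideal.exists_le_maximal J hne
    letI := Ideal.Quotient.field m
    let φ : (C ⧸ (m • ⊤ : Submodule R C)) →ₗ[R] F ⧸ (m • ⊤ : Submodule R F) :=
      Submodule.mapQ _ _ f (fun c hc => Submodule.smul_top_le_comap_smul_top m f hc)
    let φ' : (C ⧸ (m • ⊤ : Submodule R C)) →ₗ[R ⧸ m] F ⧸ (m • ⊤ : Submodule R F) :=
      { toFun := φ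
        map_add' := φ.map_add
        map_smul' := fun r x => by
          obtain ⟨r, rfl⟩ := Ideal.Quotient.mk_surjective r
          exact φ.map_smul r x }
    obtain ⟨ψ, hψ⟩ := φ'.exists_leftInverse_of_injective (LinearMap.ker_eq_bot'.2 fun x hx => by
      obtain ⟨c, rfl⟩ := Submodule.mkQ_surjective _ x
      exact (Submodule.Quotient.mk_eq_zero _).2 (h m hm c ((Submodule.Quotient.mk_eq_zero _).1 hx)))
    obtain ⟨g, hg⟩ := Module.projective_lifting_property (Submodule.mkQ (m • ⊤ : Submodule R C))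
      (ψ.restrictScalars R ∘ₗ Submodule.mkQ (m • ⊤ : Submodule R F)) (Submodule.mkQ_surjective _)
    obtain ⟨s, w, hs, hw⟩ := exists_comp_eq_smul m (g ∘ₗ f) (by
      rintro _ ⟨c, rfl⟩
      refine (Submodule.Quotient.eq _).1 ?_
      show Submodule.Quotient.mk (g (f c)) = Submodule.Quotient.mk c
      exact (LinearMap.congr_fun hg (f c)).trans (LinearMap.congr_fun hψ (Submodule.Quotient.mk c)))
    exact hs (hJm ⟨w ∘ₗ g, by rw [LinearMap.comp_assoc]; exact hw⟩)
  obtain ⟨g, hg⟩ := (Ideal.eq_top_iff_one J).1 hJ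
  exact ⟨g, by rw [hg, one_smul]⟩

/-- Exactness of every `E ⊗ M` in a degree from exactness at the closed points. -/
theorem exactAt_tensor_of_maximal {E : DRing.Cx R} {i : ℤ} [Module.Finite R (E.X i)]
    [Module.Projective R (E.X (i + 1))]
    (h : ∀ m : Ideal R, m.IsMaximal → ((escCx (Ideal.Quotient.mk m)).obj E).ExactAt i) (M : ModuleCat.{u} R) :
    (DRing.tensorCx E M).ExactAt i := by
  let B := LinearMap.range (E.d (i - 1) i).hom
  let dbar : (E.X i ⧸ B) →ₗ[R] E.X (i + 1) := B.liftQ (E.d i (i + 1)).hom (by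
    rintro _ ⟨w, rfl⟩
    show E.d i (i + 1) (E.d (i - 1) i w) = 0
    rw [← ModuleCat.comp_apply, E.d_comp_d]
    rfl)
  obtain ⟨g, hg⟩ := exists_retraction dbar (fun m hm c hc => by
    obtain ⟨x, rfl⟩ := B.mkQ_surjective c
    have he := h m hm
    rw [exact_d_iff _ (i - 1) i (i + 1) (by omega) rfl] at he
    letI := (Ideal.Quotient.mk m).toAlgebra
    have hz : ((1 : R ⧸ m) ⊗ₜ[R] E.d i (i + 1) x : (R ⧸ m) ⊗[R] E.X (i + 1)) = 0 := by
      change E.d i (i + 1) x ∈ m • ⊤ at hc
      refine Submodule.smul_induction_on hc (fun r hr y _ => ?_) (fun y z hy hz => ?_)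
      · rw [← TensorProduct.smul_tmul]
        show (Ideal.Quotient.mk m r * 1) ⊗ₜ[R] y = 0
        rw [Ideal.Quotient.eq_zero_iff_mem.2 hr, zero_mul, TensorProduct.zero_tmul]
      · rw [TensorProduct.tmul_add, hy, hz, add_zero]
    obtain ⟨w, hw⟩ := (he ((1 : R ⧸ m) ⊗ₜ[R] x : (R ⧸ m) ⊗[R] E.X i)).1 hz
    have hsurj : ∀ w : (R ⧸ m) ⊗[R] E.X (i - 1), ∃ w', (1 : R ⧸ m) ⊗ₜ[R] w' = w := by
      intro w
      induction w with
      | zero => exact ⟨0, TensorProduct.tmul_zero _ _⟩
      | tmul r y =>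
        obtain ⟨r, rfl⟩ := Ideal.Quotient.mk_surjective r
        refine ⟨r • y, ?_⟩
        rw [← TensorProduct.smul_tmul]
        show (Ideal.Quotient.mk m r * 1) ⊗ₜ[R] y = _
        rw [mul_one]
      | add a b ha hb =>
        obtain ⟨a', rfl⟩ := ha
        obtain ⟨b', rfl⟩ := hb
        exact ⟨a' + b', TensorProduct.tmul_add _ _ _⟩
    obtain ⟨w', rfl⟩ := hsurj w
    have hw' : ((1 : R ⧸ m) ⊗ₜ[R] (x - E.d (i - 1) i w') : (R ⧸ m) ⊗[R] E.X i) = 0 := by
      rw [TensorProduct.tmul_sub, sub_eq_zero]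
      exact hw.symm
    have h2 := congrArg (TensorProduct.quotTensorEquivQuotSMul (E.X i) m) hw'
    rw [map_zero] at h2
    have hx : x - E.d (i - 1) i w' ∈ (m • ⊤ : Submodule R (E.X i)) := by
      refine (Submodule.Quotient.mk_eq_zero _).1 (Eq.trans ?_ h2)
      rw [← map_one (Ideal.Quotient.mk m)]
      exact ((TensorProduct.quotTensorEquivQuotSMul_mk_tmul m 1 _).trans (by rw [one_smul])).symm
    have : B.mkQ x = B.mkQ (x - E.d (i - 1) i w') := by
      rw [map_sub, show B.mkQ (E.d (i - 1) i w') = 0 from (Submodule.Quotient.mk_eq_zero _).2 ⟨w', rfl⟩, sub_zero]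
    rw [this]
    exact Submodule.smul_top_le_comap_smul_top m B.mkQ hx)
  rw [exact_tensor_iff _ _ (i - 1) i (i + 1) (by omega) rfl]
  have hr : Function.Exact ((E.d (i - 1) i).hom.rTensor M) (B.mkQ.rTensor M) :=
    rTensor_exact M (LinearMap.exact_map_mkQ_range _) B.mkQ_surjective
  have hd : (E.d i (i + 1)).hom.rTensor M = dbar.rTensor M ∘ₗ B.mkQ.rTensor M := by
    rw [← LinearMap.rTensor_comp]
    rfl
  have hinj : Function.Injective (dbar.rTensor M) :=
    Function.LeftInverse.injective (g := g.rTensor M) fun z => by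
      rw [← LinearMap.comp_apply, ← LinearMap.rTensor_comp, hg, LinearMap.rTensor_id]; rfl
  intro z
  rw [hd, LinearMap.comp_apply, ← map_zero (dbar.rTensor M), hinj.eq_iff]
  exact hr z

/-- Tor amplitude of a pseudo-coherent object from its closed fibres. -/
theorem isPerfect_of_maximal {K : Dual.D R} (hK : DRing.IsPseudoCoherent' R K) (a b : ℤ)
    (h : ∀ (E : DRing.Cx R) (c : ℤ), DRing.VanishesAbove E c → DRing.TermwiseFiniteFree E →
      (DRing.toD E ≅ K) → ∀ m : Ideal R, m.IsMaximal → ∀ i, (i < a ∨ b < i) → i ≤ c →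
        ((escCx (Ideal.Quotient.mk m)).obj E).ExactAt i) :
    DRing.IsPerfect R K ∧ DRing.HasTorAmplitudeIn R a b K := by
  obtain ⟨E, c, hc, hE, ⟨e⟩⟩ := id hK
  have hfl : DRing.TermwiseFlat E := fun i => haveI := (hE i).2; inferInstance
  have hamp : DRing.HasTorAmplitudeIn R a b K := by
    refine hasTorAmplitudeIn_of_exact (isKFl_of_flat hc hfl) e fun M i hi => ?_
    by_cases hci : i ≤ c
    · haveI := (hE i).1
      haveI := (hE (i + 1)).2
      exact exactAt_tensor_of_maximal (fun m hm => h E c hc hE e m hm i hi hci) M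
    · rw [(DRing.tensorCx E M).exactAt_iff' (i - 1) i (i + 1) (by simp) (by simp)]
      exact ShortComplex.exact_of_isZero_X₂ _
        ((CategoryTheory.MonoidalCategory.tensorRight M).map_isZero (hc i (by omega)))
  exact ⟨(isPerfect_iff K).2 ⟨hK, a, b, hamp⟩, hamp⟩

theorem exactAt_esc_of_subsingleton {S : Type u} [CommRing S] (φ : R →+* S) [DRing.HasLBaseChange φ]
    {E : DRing.Cx R} {c : ℤ} (hc : DRing.VanishesAbove E c) (hE : DRing.TermwiseFiniteFree E) {K : Dual.D R}
    (e : DRing.toD E ≅ K) {i : ℤ} (h : Subsingleton (Dual.HD S ((DRing.LBaseChange φ).obj K) i)) :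
    ((escCx φ).obj E).ExactAt i := by
  obtain ⟨e'⟩ := exists_lBaseChange_iso φ
    (isKFl_of_flat hc fun j => haveI := (hE j).2; inferInstance : DRingKFlat.IsKFl E)
  exact (subsingleton_HD_iff _ i).1
    ((subsingleton_HD_congr ((DRing.LBaseChange φ).mapIso e.symm ≪≫ e') i).1 h)

end Groth.Agent.DRingAmp
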