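import Groth.Agent.DRingComplete.Nakayama
import Groth.Agent.DRingTorAmp.Descent

/-!
# Pseudo-coherence and tor amplitude along nilpotent thickenings
-/

universe u

open CategoryTheory Limits MonoidalCategory HomologicalComplex
open scoped TensorProduct

namespace Groth.Agent.DRingAmp

attribute [local instance] HasDerivedCategory.standard

set_option linter.style.haveILetI false

open Groth.Agent.DRingKFlat Groth.Agent.DRingTorAmp Groth.Agent.DRingKProj

variable {R : Type u} [CommRing R] {S : Type u} [CommRing S] {φ : R →+* S} (hφ : Function.Surjective φ)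

include hφ in
/-- Modules killed by the kernel are `S`-modules. -/
theorem exactAt_tensor_of_esc {P : DRing.Cx R} {i : ℤ}
    (h : ∀ N : ModuleCat.{u} S, (DRing.tensorCx ((escCx φ).obj P) N).ExactAt i) (N : ModuleCat.{u} R)
    (hN : ∀ a ∈ RingHom.ker φ, ∀ x : N, a • x = 0) : (DRing.tensorCx P N).ExactAt i := by
  letI := φ.toAlgebra
  have wd : ∀ (a b : R) (x : N), φ a = φ b → a • x = b • x := fun a b x hab => by
    rw [← sub_eq_zero, ← sub_smul]
    exact hN _ (by rw [RingHom.mem_ker, map_sub, hab, sub_self]) x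
  letI : SMul S N := ⟨fun s x => Function.surjInv hφ s • x⟩
  have hsm : ∀ (r : R) (x : N), φ r • x = r • x := fun r x => wd _ _ x (Function.surjInv_eq hφ (φ r))
  letI : Module S N := Function.Surjective.moduleLeft φ hφ hsm
  haveI : IsScalarTower R S N := ⟨fun r s x => by
    obtain ⟨s, rfl⟩ := hφ s
    show (φ r * φ s) • x = r • (φ s • x)
    rw [← map_mul, hsm, hsm, mul_smul]⟩
  have h1 := h (ModuleCat.of S N)
  rw [exact_tensor_iff _ _ (i - 1) i (i + 1) (by omega) rfl] at h1 ⊢
  let e : ∀ X : ModuleCat.{u} R, (S ⊗[R] X) ⊗[S] N ≃ₗ[R] X ⊗[R] N := fun X =>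
    (TensorProduct.comm S (S ⊗[R] X) N).restrictScalars R ≪≫ₗ
      (TensorProduct.AlgebraTensorModule.cancelBaseChange R S S N X).restrictScalars R ≪≫ₗ
      TensorProduct.comm R N X
  refine (Function.Exact.iff_of_ladder_linearEquiv (e₁ := e _) (e₂ := e _) (e₃ := e _)
    (f₁₂ := (((P.d (i - 1) i).hom.baseChange S).rTensor N).restrictScalars R)
    (f₂₃ := (((P.d i (i + 1)).hom.baseChange S).rTensor N).restrictScalars R)
    (g₁₂ := (P.d (i - 1) i).hom.rTensor N) (g₂₃ := (P.d i (i + 1)).hom.rTensor N) ?_ ?_).2 h1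
  · refine LinearMap.ext fun z => ?_
    induction z with
    | zero => simp
    | tmul x n =>
      induction x with
      | zero => simp
      | tmul s x => rfl
      | add x y hx hy => simp only [TensorProduct.add_tmul, map_add, hx, hy]
    | add x y hx hy => simp only [map_add, hx, hy]
  · refine LinearMap.ext fun z => ?_
    induction z with
    | zero => simp
    | tmul x n =>
      induction x with
      | zero => simp
      | tmul s x => rfl
      | add x y hx hy => simp only [TensorProduct.add_tmul, map_add, hx, hy]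
    | add x y hx hy => simp only [map_add, hx, hy]

include hφ in
/-- Dévissage along the powers of the kernel. -/
theorem exactAt_tensor_of_nilpotent (hnil : IsNilpotent (RingHom.ker φ)) {P : DRing.Cx R}
    (hflat : DRing.TermwiseFlat P) {i : ℤ}
    (h : ∀ N : ModuleCat.{u} S, (DRing.tensorCx ((escCx φ).obj P) N).ExactAt i) (N : ModuleCat.{u} R) :
    (DRing.tensorCx P N).ExactAt i := by
  obtain ⟨k, hk⟩ := hnil
  suffices H : ∀ (j : ℕ) (N : ModuleCat.{u} R), (∀ a ∈ RingHom.ker φ ^ j, ∀ x : N, a • x = 0) →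
      (DRing.tensorCx P N).ExactAt i by
    refine H k N fun a ha x => ?_
    rw [hk] at ha
    rw [show a = 0 from ha, zero_smul]
  intro j
  induction j with
  | zero =>
    intro N hN
    have : Subsingleton N := subsingleton_of_forall_eq 0 fun x => by
      simpa using hN 1 (by simp) x
    exact exactAt_tensor_of_esc hφ h N fun a _ x => Subsingleton.elim _ _
  | succ j ih =>
    intro N hN
    let W : Submodule R N := RingHom.ker φ • ⊤
    obtain ⟨w, hW⟩ := DRingComplete.tenMap_shortExact hflat (ModuleCat.ofHom W.subtype) (ModuleCat.ofHom W.mkQ)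
      W.injective_subtype (LinearMap.exact_subtype_mkQ W) W.mkQ_surjective
    have h₁ := ih (ModuleCat.of R W) fun a ha x => Subtype.ext (by
      show a • x.1 = 0
      refine Submodule.smul_induction_on x.2 (fun r hr y _ => ?_) (fun y z hy hz => by rw [smul_add, hy, hz, add_zero])
      rw [smul_smul]
      exact hN _ (by rw [pow_succ]; exact Ideal.mul_mem_mul ha hr) y)
    have h₃ := exactAt_tensor_of_esc hφ h (ModuleCat.of R (N ⧸ W)) fun a ha x => by
      obtain ⟨x, rfl⟩ := W.mkQ_surjective x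
      rw [← map_smul, Submodule.mkQ_apply, Submodule.Quotient.mk_eq_zero]
      exact Submodule.smul_mem_smul ha Submodule.mem_top
    rw [exactAt_iff_isZero_homology] at h₁ h₃ ⊢
    exact (hW.homology_exact₂ i).isZero_of_both_zeros (h₁.eq_of_src _ _) (h₃.eq_of_tgt _ _)

include hφ in
theorem hasTorAmplitudeIn_of_lBaseChange (hnil : IsNilpotent (RingHom.ker φ)) [DRing.HasLBaseChange φ]
    (K : Dual.D R) (a b : ℤ) (h : DRing.HasTorAmplitudeIn S a b ((DRing.LBaseChange φ).obj K)) :
    DRing.HasTorAmplitudeIn R a b K := by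
  obtain ⟨P, hP, hflat, ⟨e⟩⟩ := DRingComplete.exists_flat_rep K
  obtain ⟨e'⟩ := exists_lBaseChange_iso φ hP
  refine hasTorAmplitudeIn_of_exact hP e fun M i hi => exactAt_tensor_of_nilpotent hφ hnil hflat (fun N => ?_) M
  exact exactAt_of_hasTorAmplitudeIn h (DCohBridge.isKFlat_baseChange φ hP)
    (e'.symm ≪≫ (DRing.LBaseChange φ).mapIso e) N i hi

include hφ in
theorem exactAt_of_esc_exact (hnil : IsNilpotent (RingHom.ker φ)) {P : DRing.Cx R} (hP : IsKFl P)
    (hflat : DRing.TermwiseFlat P) {c : ℤ} (h : ∀ i, c < i → ((escCx φ).obj P).ExactAt i) (i : ℤ) (hi : c < i) :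
    P.ExactAt i :=
  (exactAt_tensor_unit_iff P i).1 (exactAt_tensor_of_nilpotent hφ hnil hflat
    (fun N => DRingComplete.exactAt_tensor_of_exact (DCohBridge.isKFlat_baseChange φ hP) h N i hi) _)

include hφ in
theorem finite_homology_of_esc (hnil : IsNilpotent (RingHom.ker φ)) {E : DRing.Cx R} {n : ℤ}
    (hz : IsZero (E.X (n + 1))) [Module.Finite S (((escCx φ).obj E).sc' (n - 1) n (n + 1)).homology] :
    Module.Finite R (E.sc' (n - 1) n (n + 1)).homology := by
  classical
  letI := φ.toAlgebra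
  let T := E.sc' (n - 1) n (n + 1)
  let T' := ((escCx φ).obj E).sc' (n - 1) n (n + 1)
  have hg : ∀ x : T.X₂, T.g x = 0 := fun x => (ModuleCat.subsingleton_of_isZero hz).elim _ _
  have hg' : ∀ x : T'.X₂, T'.g x = 0 := fun x =>
    (ModuleCat.subsingleton_of_isZero ((ModuleCat.extendScalars.{u, u, u} φ).map_isZero hz)).elim _ _
  have hlift : ∀ (X : Type u) [AddCommGroup X] [Module R X] (z : S ⊗[R] X), ∃ x : X, (1 : S) ⊗ₜ[R] x = z := by
    intro X _ _ z
    induction z with
    | zero => exact ⟨0, TensorProduct.tmul_zero _ _⟩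
    | tmul s x =>
      obtain ⟨r, rfl⟩ := hφ s
      refine ⟨r • x, ?_⟩
      rw [← TensorProduct.smul_tmul]
      show (φ r * 1) ⊗ₜ[R] x = _
      rw [mul_one]
    | add a b ha hb =>
      obtain ⟨a', rfl⟩ := ha
      obtain ⟨b', rfl⟩ := hb
      exact ⟨a' + b', TensorProduct.tmul_add _ _ _⟩
  have hker : ∀ y : E.X n, ((1 : S) ⊗ₜ[R] y : S ⊗[R] E.X n) = 0 →
      y ∈ (RingHom.ker φ • ⊤ : Submodule R (E.X n)) := by
    intro y hy
    let q : (R ⧸ (RingHom.ker φ : Ideal R)) ≃ₗ[R] S := LinearEquiv.ofBijective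
      ((RingHom.ker φ).liftQ (Algebra.linearMap R S) (fun x hx => hx))
      ⟨LinearMap.ker_eq_bot.1 (Submodule.ker_liftQ_eq_bot _ _ _ le_rfl),
        fun s => by obtain ⟨r, rfl⟩ := hφ s; exact ⟨Submodule.Quotient.mk r, rfl⟩⟩
    have h2 : TensorProduct.quotTensorEquivQuotSMul (E.X n) (RingHom.ker φ)
        (q.symm.toLinearMap.rTensor (E.X n) ((1 : S) ⊗ₜ[R] y)) = 0 := by
      rw [hy, map_zero, map_zero]
    have h3 : q.symm (1 : S) = Ideal.Quotient.mk (RingHom.ker φ) 1 := q.injective (by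
      rw [LinearEquiv.apply_symm_apply]
      exact (map_one φ).symm)
    rw [LinearMap.rTensor_tmul, LinearEquiv.coe_coe, h3, TensorProduct.quotTensorEquivQuotSMul_mk_tmul,
      one_smul] at h2
    exact (Submodule.Quotient.mk_eq_zero _).1 h2
  haveI : Module.Finite S T'.homology := ‹_›
  obtain ⟨k, gen, hgen⟩ := Module.Finite.exists_fin (R := S) (M := T'.homology)
  choose z hz₁ hz₂ using fun j => FlatComplex.cls_surjective (gen j)
  choose x hx using fun j => hlift (E.X n) (z j)
  let pS : LinearMap.ker T'.g.hom →ₗ[S] T'.homology := T'.homologyπ.hom ∘ₗ T'.moduleCatCyclesIso.inv.hom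
  let N : Submodule R (E.X n) := Submodule.span R (Set.range x) ⊔ LinearMap.range (E.d (n - 1) n).hom
  have hsup : (⊤ : Submodule R (E.X n)) ≤ N ⊔ RingHom.ker φ • ⊤ := by
    intro y _
    have hy : pS ⟨(1 : S) ⊗ₜ[R] y, hg' _⟩ ∈ Submodule.span S (Set.range gen) := hgen ▸ Submodule.mem_top
    rw [Submodule.mem_span_range_iff_exists_fun] at hy
    obtain ⟨c, hc⟩ := hy
    choose r hr using fun j => hφ (c j)
    have h1 : pS ⟨(1 : S) ⊗ₜ[R] (∑ j, r j • x j), hg' _⟩ = ∑ j, c j • gen j := by
      have : (⟨(1 : S) ⊗ₜ[R] (∑ j, r j • x j), hg' _⟩ : LinearMap.ker T'.g.hom) =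
          ∑ j, c j • ⟨z j, hz₁ j⟩ := Subtype.ext (by
        rw [Submodule.coe_sum]
        refine (TensorProduct.tmul_sum _ _ _).trans (Finset.sum_congr rfl fun j _ => ?_)
        show ((1 : S) ⊗ₜ[R] (r j • x j) : S ⊗[R] E.X n) = c j • z j
        rw [← hx j, ← hr j]
        show ((1 : S) ⊗ₜ[R] (r j • x j) : S ⊗[R] E.X n) = φ (r j) • ((1 : S) ⊗ₜ[R] x j)
        rw [← TensorProduct.smul_tmul, TensorProduct.smul_tmul']
        rfl)
      rw [this, map_sum]
      exact Finset.sum_congr rfl fun j _ => by rw [map_smul]; exact congrArg (c j • ·) (hz₂ j)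
    obtain ⟨w, hw⟩ := (FlatComplex.cls_eq_cls_iff _ _ (hg' _) (hg' _)).1 (hc.symm.trans h1.symm)
    obtain ⟨w', rfl⟩ := hlift (E.X (n - 1)) w
    have h0 := hker (y - ∑ j, r j • x j - E.d (n - 1) n w') (by
      rw [TensorProduct.tmul_sub, TensorProduct.tmul_sub, sub_eq_zero]
      exact hw)
    rw [show y = ((∑ j, r j • x j) + E.d (n - 1) n w') + (y - ∑ j, r j • x j - E.d (n - 1) n w') by abel]
    exact Submodule.add_mem _ (Submodule.mem_sup_left (Submodule.add_mem_sup
      (Submodule.sum_mem _ fun j _ => Submodule.smul_mem _ _ (Submodule.subset_span ⟨j, rfl⟩)) ⟨w', rfl⟩))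
      (Submodule.mem_sup_right h0)
  have htop : N = ⊤ := by
    obtain ⟨m, hm⟩ := hnil
    have key : ∀ l : ℕ, (⊤ : Submodule R (E.X n)) ≤ N ⊔ RingHom.ker φ ^ l • ⊤ := by
      intro l
      induction l with
      | zero => simp
      | succ l ih =>
        refine ih.trans (sup_le le_sup_left ?_)
        refine (Submodule.smul_mono le_rfl hsup).trans ?_
        rw [Submodule.smul_sup, ← Submodule.smul_assoc, smul_eq_mul, ← pow_succ]
        exact sup_le (le_sup_of_le_left Submodule.smul_le_right) le_sup_right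
    simpa [hm] using key m
  let p : E.X n →ₗ[R] T.homology :=
    T.homologyπ.hom ∘ₗ T.moduleCatCyclesIso.inv.hom ∘ₗ LinearMap.id.codRestrict (LinearMap.ker T.g.hom) hg
  refine ⟨⟨Finset.univ.image (p ∘ x), top_le_iff.1 fun h _ => ?_⟩⟩
  obtain ⟨(y : E.X n), hy, rfl⟩ := FlatComplex.cls_surjective h
  have hyN : y ∈ N := htop ▸ Submodule.mem_top
  obtain ⟨(a : E.X n), ha, _, ⟨b, rfl⟩, rfl⟩ := Submodule.mem_sup.1 hyN
  have hcls : FlatComplex.cls T (a + E.d (n - 1) n b : E.X n) hy = p a :=
    (FlatComplex.cls_eq_cls_iff _ _ hy (hg a)).2 ⟨b, add_sub_cancel_left _ _⟩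
  rw [hcls, Finset.coe_image, Finset.coe_univ, Set.image_univ, Set.range_comp, ← Submodule.map_span]
  exact ⟨a, ha, rfl⟩

include hφ in
theorem isPseudoCoherent'_of_lBaseChange (hnil : IsNilpotent (RingHom.ker φ)) [DRing.HasLBaseChange φ]
    (K : Dual.D R) (h : DRing.IsPseudoCoherent' S ((DRing.LBaseChange φ).obj K)) :
    DRing.IsPseudoCoherent' R K := by
  obtain ⟨P₀, hP₀, hflat₀, ⟨e₀⟩⟩ := DRingComplete.exists_flat_rep K
  obtain ⟨e'⟩ := exists_lBaseChange_iso φ hP₀
  have h₀ : ∀ m, DRing.IsPseudoCoherent S m (DRing.toD ((escCx φ).obj P₀)) := fun m =>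
    isPseudoCoherent_of_iso ((DRing.LBaseChange φ).mapIso e₀.symm ≪≫ e') (isPseudoCoherent_of_pseudoCoherent' h m)
  refine pseudoCoherent'_of_forall fun m => isPseudoCoherent_of_iso e₀ ?_
  obtain ⟨b₀, hb₀⟩ := exists_vanishGE (h₀ m)
  let b := max b₀ m
  have hex : ∀ i, b < i → P₀.ExactAt i := exactAt_of_esc_exact hφ hnil hP₀ hflat₀ fun i hi =>
    (vanishGE_Q_iff (b₀ + 1) _).1 (fun j hj => hb₀ j (by omega)) i (by omega)
  refine isPseudoCoherent_of_coneFinite (b := b) hex (by omega) fun n F f hmn _ hFo hFf hC => ?_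
  let C := CochainComplex.mappingCone f
  have hFflat : DRing.TermwiseFlat F := fun i => haveI := (hFf i).2; inferInstance
  have hCK : IsKFl C := isKFlat_cone f (isKFl_of_flat (fun i hi => hFo i (Or.inr hi)) hFflat) hP₀
  obtain ⟨E, π, hE, hπ, hfree, hEb⟩ := exists_resolution_of_exactAt (K := C) (S := fun i => i ≤ n)
    (fun i hi => hC i (by omega)) (fun i hi => by omega)
  haveI := hE
  haveI := hπ
  have hq := quasiIso_map (ModuleCat.extendScalars.{u, u, u} φ) (fun _ h hac => acyclic_baseChange φ h hac)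
    (isKFl_of_isKProjective E) hCK π
  haveI : IsIso (DerivedCategory.Q.map ((escCx φ).map π)) := (DerivedCategory.isIso_Q_map_iff_quasiIso _ _).2 hq
  have hpc : DRing.IsPseudoCoherent S n (DRing.toD ((escCx φ).obj E)) := by
    refine isPseudoCoherent_of_iso ?_ (isPseudoCoherent_obj₃ _
      (DerivedCategory.mappingCone_triangle_distinguished ((escCx φ).map f)) n
      (isPseudoCoherent_toD (esc_outside φ hFo) (termwiseFiniteFree_map_extendScalars φ hFf) _)
      (isPseudoCoherent_mono hmn (h₀ m)))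
    exact DerivedCategory.Q.mapIso (CochainComplex.mappingCone.mapHomologicalComplexIso f _).symm ≪≫
      (asIso (DerivedCategory.Q.map ((escCx φ).map π))).symm
  have hEex : ∀ i, n < i → ((escCx φ).obj E).ExactAt i := fun i hi =>
    ShortComplex.exact_of_isZero_X₂ _ ((ModuleCat.extendScalars.{u, u, u} φ).map_isZero (hEb i (by omega)))
  have hfinS := (finite_homology hpc).1 fun j hj => (vanishGE_Q_iff (n + 1) _).2 (fun l hl => hEex l (by omega)) j (by omega)
  haveI : Module.Finite S (((escCx φ).obj E).sc' (n - 1) n (n + 1)).homology := by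
    haveI : Module.Finite S ((DerivedCategory.Q ⋙ DerivedCategory.homologyFunctor (ModuleCat.{u} S) n).obj
      ((escCx φ).obj E)) := hfinS
    exact Module.Finite.equiv ((DerivedCategory.homologyFunctorFactors (ModuleCat.{u} S) n).app _ ≪≫
      ((escCx φ).obj E).homologyIsoSc' (n - 1) n (n + 1) (by simp) (by simp)).toLinearEquiv
  haveI := finite_homology_of_esc hφ hnil (E := E) (n := n) (hEb _ (by omega))
  exact Module.Finite.equiv ((E.homologyIsoSc' (n - 1) n (n + 1) (by simp) (by simp)).symm ≪≫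
    asIso (HomologicalComplex.homologyMap π n)).toLinearEquiv

end Groth.Agent.DRingAmp
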