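import Groth.Agent.DRingAmp.Proj
import Groth.Prelude.Def_DRing4
import Mathlib.Algebra.Homology.HomotopyCategory.HomComplexCohomology

/-!
# `RHom` out of a bounded above complex of projective modules
-/

universe u

open CategoryTheory Limits CochainComplex.HomComplex

namespace Groth.Agent.DRingAmp

attribute [local instance] HasDerivedCategory.standard

set_option linter.style.haveILetI false

variable {R : Type u} [CommRing R] {P : DRing.Cx R} [P.IsKProjective] {L L' : DRing.Cx R}

theorem mem_coboundaries_iff_Q {n : ℤ} (z : Cocycle P L n) :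
    z ∈ coboundaries P L n ↔ DerivedCategory.Q.map (Cocycle.equivHomShift.symm z) = 0 := by
  rw [← CohomologyClass.toHom_mk_eq_zero_iff, CohomologyClass.toHom_mk,
    PCExt.Q_map_eq_zero_iff_of_isKProjective]

theorem quasiIso_homCxMap (f : L ⟶ L') [QuasiIso f] : QuasiIso (DRing.homCxMap P f) := by
  refine ⟨fun n => ?_⟩
  rw [quasiIsoAt_iff' (DRing.homCxMap P f) (n - 1) n (n + 1) (by simp) (by simp), ShortComplex.quasiIso_iff,
    ConcreteCategory.isIso_iff_bijective]
  haveI : IsIso (DerivedCategory.Q.map f) := (DerivedCategory.isIso_Q_map_iff_quasiIso _ f).2 inferInstance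
  haveI hf : IsIso (DerivedCategory.Q.map (f⟦n⟧')) :=
    ((MorphismProperty.isomorphisms _).arrow_mk_iso_iff
      (Arrow.isoMk' _ ((DerivedCategory.Q.map f)⟦n⟧') ((DerivedCategory.Q.commShiftIso n).app L)
        ((DerivedCategory.Q.commShiftIso n).app L') ((DerivedCategory.Q.commShiftIso n).hom.naturality f).symm)).2
      (inferInstanceAs (IsIso _))
  have hn : n + 1 = n + 1 := rfl
  refine ⟨(FlatComplex.homologyMap_injective_iff _).2 fun (x : Cochain P L n) hx ⟨(w : Cochain P L' (n - 1)), hw⟩ => ?_,
    (FlatComplex.homologyMap_surjective_iff _).2 fun (z : Cochain P L' n) hz => ?_⟩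
  · let z : Cocycle P L n := Cocycle.mk x (n + 1) rfl hx
    have h1 : z.postcomp f ∈ coboundaries P L' n := ⟨n - 1, by omega, w, hw.symm⟩
    rw [mem_coboundaries_iff_Q, Cocycle.equivHomShift_symm_postcomp, Functor.map_comp,
      Preadditive.IsIso.comp_right_eq_zero] at h1
    obtain ⟨m, hm, β, hβ⟩ := (mem_coboundaries_iff_Q z).2 h1
    obtain rfl : m = n - 1 := by omega
    exact ⟨β, hβ.symm⟩
  · let z' : Cocycle P L' n := Cocycle.mk z (n + 1) rfl hz
    obtain ⟨g, hg⟩ := PCExt.Q_map_surjective_of_isKProjective P (L⟦n⟧)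
      (DerivedCategory.Q.map (Cocycle.equivHomShift.symm z') ≫ inv (DerivedCategory.Q.map (f⟦n⟧')))
    let y := Cocycle.equivHomShift g
    have h2 : y.postcomp f - z' ∈ coboundaries P L' n := by
      rw [mem_coboundaries_iff_Q, map_sub, Cocycle.equivHomShift_symm_postcomp, AddEquiv.symm_apply_apply,
        Functor.map_sub, Functor.map_comp, show DerivedCategory.Q.map g = _ from hg, Category.assoc,
        IsIso.inv_hom_id, Category.comp_id, sub_self]
    obtain ⟨m, hm, β, hβ⟩ := h2
    obtain rfl : m = n - 1 := by omega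
    exact ⟨y.1, Cocycle.δ_eq_zero y (n + 1), β, hβ.symm⟩

theorem rHomCx_iso_homCx (P : DRing.Cx R) (b : ℤ) (hb : DRing.VanishesAbove P b)
    (hP : ∀ i : ℤ, Module.Projective R (P.X i)) [DRing.HasRHomCx P] (L : DRing.Cx R) :
    Nonempty ((DRing.RHomCx P).obj (DRing.toD L) ≅ DRing.toD (DRing.homCx P L)) := by
  haveI : ∀ n : ℤ, Projective (P.X n) := fun n => by
    haveI := hP n
    exact (IsProjective.iff_projective (R := R) (P.X n)).1 inferInstance
  haveI : CochainComplex.IsStrictlyLE P b := by
    rw [CochainComplex.isStrictlyLE_iff]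
    exact fun i hi => hb i hi
  haveI := CochainComplex.isKProjective_of_projective P b
  have hinv : (HomologicalComplex.quasiIso (ModuleCat.{u} R) (ComplexShape.up ℤ)).IsInvertedBy (DRing.homCxQ P) :=
    fun X Y f hf => by
      haveI : QuasiIso f := hf
      exact (DerivedCategory.isIso_Q_map_iff_quasiIso _ _).2 (quasiIso_homCxMap f)
  haveI := Functor.isIso_of_isRightDerivedFunctor_of_inverts (L := DerivedCategory.Q) (DRing.RHomCx P)
    ((DRing.homCxQ P).totalRightDerivedUnit DerivedCategory.Q
      (HomologicalComplex.quasiIso (ModuleCat.{u} R) (ComplexShape.up ℤ))) hinv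
  exact ⟨(asIso (((DRing.homCxQ P).totalRightDerivedUnit DerivedCategory.Q
    (HomologicalComplex.quasiIso (ModuleCat.{u} R) (ComplexShape.up ℤ))).app L)).symm⟩

end Groth.Agent.DRingAmp
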