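import Groth.Agent.DRingAmp.Proj
import Groth.Agent.DerCat.Devissage

/-!
# Splitting off a part of projective amplitude
-/

universe u

open CategoryTheory Limits Pretriangulated

namespace Groth.Agent.DRingAmp

attribute [local instance] HasDerivedCategory.standard

set_option linter.style.haveILetI false

open Groth.Agent.DRingTorAmp

variable {R : Type u} [CommRing R]

local notation "tR" => (DerivedCategory.TStructure.t : Triangulated.TStructure (Dual.D R))

theorem exists_splitting (a : ℤ) (K : Dual.D R)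
    (hKb : ∃ b : ℤ, ∀ i : ℤ, b < i → Subsingleton (Dual.HD R K i))
    (h : ∀ (M M' : Type u) [AddCommGroup M] [Module R M] [AddCommGroup M'] [Module R M'] (g : M →ₗ[R] M'),
      Function.Injective g → Function.Injective (fun x : K ⟶ (shiftFunctor (Dual.D R) (-a)).obj (Dual.inD R M) =>
        x ≫ (shiftFunctor (Dual.D R) (-a)).map
          ((DerivedCategory.singleFunctor (ModuleCat.{u} R) 0).map (ModuleCat.ofHom g)))) :
    ∃ (P : DRing.Cx R) (b : ℤ), DRing.VanishesOutside P (a + 1) b ∧ (∀ i : ℤ, Module.Projective R (P.X i)) ∧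
      Nonempty (DRing.toD P ≅ ((tR).truncGE (a + 1)).obj K) := by
  obtain ⟨b, hb⟩ := hKb
  let K₀ := DerivedCategory.Q.objPreimage K
  let e₀ : DRing.toD K₀ ≅ K := DerivedCategory.Q.objObjPreimageIso K
  obtain ⟨P, π, hP, hπ, hfree, hPb⟩ := DRingKProj.exists_resolution_of_exactAt (K := K₀) (S := fun n => n ≤ b)
    (fun n hn => (subsingleton_HD_iff K₀ n).1 ((subsingleton_HD_congr e₀ n).2 (hb n (by omega))))
    (fun n hn => by omega)
  haveI := hP
  haveI := hπ
  haveI : IsIso (DerivedCategory.Q.map π) := (DerivedCategory.isIso_Q_map_iff_quasiIso _ π).2 hπ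
  let e : DRing.toD P ≅ K := asIso (DerivedCategory.Q.map π) ≪≫ e₀
  have hproj : ∀ i, Module.Projective R (P.X i) := fun i => haveI := hfree i; inferInstance
  obtain ⟨p, rfl⟩ : ∃ p, a = -p := ⟨-a, (neg_neg a).symm⟩
  rw [neg_neg] at h
  have hc : Module.Projective R (P.X (-p + 1) ⧸ LinearMap.range (P.d (-p) (-p + 1)).hom) := by
    let N := LinearMap.range (P.d (-p) (-p + 1)).hom
    let φ : P.X (-p) ⟶ ModuleCat.of R N := ModuleCat.ofHom (P.d (-p) (-p + 1)).hom.rangeRestrict
    have hφ : P.d (-p - 1) (-p) ≫ φ = 0 := ModuleCat.hom_ext (LinearMap.ext fun x => Subtype.ext (by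
      show P.d (-p) (-p + 1) (P.d (-p - 1) (-p) x) = 0
      rw [← ModuleCat.comp_apply, P.d_comp_d]
      rfl))
    have h0 : PCExt.cls e p φ hφ = 0 := by
      refine h N (P.X (-p + 1)) N.subtype N.injective_subtype ?_
      show PCExt.cls e p φ hφ ≫ _ = 0 ≫ _
      rw [zero_comp]
      refine (PCExt.cls_comp e p φ hφ (ModuleCat.ofHom N.subtype)).trans ?_
      refine (PCExt.cls_eq_zero_iff e p _ _).2 ⟨𝟙 _, ?_⟩
      rw [Category.comp_id]
      rfl
    obtain ⟨g, hg⟩ := (PCExt.cls_eq_zero_iff e p φ hφ).1 h0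
    haveI := hproj (-p + 1)
    let s : (P.X (-p + 1) ⧸ N) →ₗ[R] P.X (-p + 1) := Submodule.liftQ _ (LinearMap.id - N.subtype ∘ₗ g.hom) (by
      rintro _ ⟨y, rfl⟩
      show P.d (-p) (-p + 1) y - (g (P.d (-p) (-p + 1) y)).1 = 0
      rw [show g (P.d (-p) (-p + 1) y) = φ y from LinearMap.congr_fun (congrArg ModuleCat.Hom.hom hg) y]
      exact sub_self _)
    refine Module.Projective.of_split s N.mkQ (Submodule.linearMap_qext _ (LinearMap.ext fun x => ?_))
    show Submodule.Quotient.mk (x - (g x).1) = Submodule.Quotient.mk x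
    rw [Submodule.Quotient.eq, sub_sub_cancel_left, neg_mem_iff]
    exact (g x).2
  generalize hc' : -p + 1 = c at hc ⊢
  have hc2 : Module.Projective R (P.X c ⧸ LinearMap.range (P.d (c - 1) c).hom) := by
    rw [show c - 1 = -p by omega]
    exact hc
  subst hc'
  generalize hc' : -p + 1 = c at hc hc2
  subst hc'
  let c := -p + 1
  let f : K ⟶ DRing.toD (cut P c) := e.inv ≫ DerivedCategory.Q.map (cutπ P c)
  haveI : (DRing.toD (cut P c)).IsGE c := by
    rw [DerivedCategory.isGE_iff]
    intro i hi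
    exact (isZero_HD_iff _ i).2 ((subsingleton_HD_iff _ i).2
      (ShortComplex.exact_of_isZero_X₂ _ (cut_isZero (Or.inl hi))))
  obtain ⟨u, hu⟩ : ∃ u : ((tR).truncGE c).obj K ⟶ DRing.toD (cut P c), ((tR).truncGEπ c).app K ≫ u = f := by
    exact ⟨(tR).descTruncGT f (-p) c rfl, (tR).π_descTruncGT f (-p) c rfl⟩
  haveI : IsIso u := by
    rw [DerivedCategory.isIso_iff]
    intro i
    by_cases hi : i < c
    · exact isIso_of_source_target_iso_zero _
        (IsZero.isoZero (DerivedCategory.isZero_of_isGE (((tR).truncGE c).obj K) c i hi))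
        (IsZero.isoZero (DerivedCategory.isZero_of_isGE (DRing.toD (cut P c)) c i hi))
    · have h1 : IsIso ((DerivedCategory.homologyFunctor (ModuleCat.{u} R) i).map (((tR).truncGEπ c).app K)) := by
        exact DerCat.isIso_homology_truncGTπ K (-p) i (by omega)
      have h2 : IsIso ((DerivedCategory.homologyFunctor (ModuleCat.{u} R) i).map (DerivedCategory.Q.map (cutπ P c))) := by
        haveI := quasiIsoAt_cutπ (E := P) hi
        exact (NatIso.isIso_map_iff (DerivedCategory.homologyFunctorFactors _ i) (cutπ P c)).2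
          ((quasiIsoAt_iff_isIso_homologyMap _ _).1 inferInstance)
      have h3 : IsIso ((DerivedCategory.homologyFunctor (ModuleCat.{u} R) i).map f) := by
        simp only [f, Functor.map_comp]
        infer_instance
      rw [← hu, Functor.map_comp] at h3
      exact IsIso.of_isIso_comp_left
        ((DerivedCategory.homologyFunctor (ModuleCat.{u} R) i).map (((tR).truncGEπ c).app K)) _
  exact ⟨cut P c, b, fun i hi => cut_isZero (hi.imp_right fun hi => hPb i (by omega)), cut_projective hproj hc2,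
    ⟨(asIso u).symm⟩⟩

theorem exists_biprod_iso (a : ℤ) (K : Dual.D R) {P : DRing.Cx R} {b : ℤ} (hP : DRing.VanishesOutside P (a + 1) b)
    (hp : ∀ i : ℤ, Module.Projective R (P.X i)) (e : DRing.toD P ≅ ((tR).truncGE (a + 1)).obj K)
    [HasBinaryBiproduct (((tR).truncLT (a + 1)).obj K) (((tR).truncGE (a + 1)).obj K)] :
    ∃ e' : K ≅ ((tR).truncLT (a + 1)).obj K ⊞ ((tR).truncGE (a + 1)).obj K,
      ((tR).truncLTι (a + 1)).app K ≫ e'.hom = biprod.inl ∧
        e'.hom ≫ biprod.snd = ((tR).truncGEπ (a + 1)).app K := by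
  have hT := (tR).triangleLTGE_distinguished (a + 1) K
  have hz : Subsingleton (((tR).truncGE (a + 1)).obj K ⟶ (((tR).truncLT (a + 1)).obj K)⟦(1 : ℤ)⟧) :=
    subsingleton_hom hP hp e fun i hi => by
      haveI : ((tR).truncLT (a + 1)).obj K |>.IsLE a := (tR).isLE_truncLT_obj K (a + 1) a
      haveI : Subsingleton (((DerivedCategory.homologyFunctor (ModuleCat.{u} R) 0).shift (1 + i)).obj
          (((tR).truncLT (a + 1)).obj K)) :=
        (isZero_HD_iff _ (1 + i)).1 (DerivedCategory.isZero_of_isLE (((tR).truncLT (a + 1)).obj K) a (1 + i) (by omega))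
      exact (((DerivedCategory.homologyFunctor (ModuleCat.{u} R) 0).shiftIso 1 i (1 + i) rfl).app
        _).toLinearEquiv.toEquiv.subsingleton
  obtain ⟨e', h1, h2⟩ := exists_iso_binaryBiproduct_of_distTriang _ hT (hz.elim _ _)
  exact ⟨e', h1, h2.symm⟩

theorem exists_biprod_iso' (a : ℤ) (K : Dual.D R) (ha : Subsingleton (Dual.HD R K a))
    {P : DRing.Cx R} {b : ℤ} (hP : DRing.VanishesOutside P (a + 1) b)
    (hp : ∀ i : ℤ, Module.Projective R (P.X i)) (e : DRing.toD P ≅ ((tR).truncGE (a + 1)).obj K)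
    [HasBinaryBiproduct (((tR).truncLT a).obj K) (((tR).truncGE (a + 1)).obj K)] :
    ∃ e' : K ≅ ((tR).truncLT a).obj K ⊞ ((tR).truncGE (a + 1)).obj K,
      ((tR).truncLTι a).app K ≫ e'.hom = biprod.inl ∧
        e'.hom ≫ biprod.snd = ((tR).truncGEπ (a + 1)).app K := by
  obtain ⟨e', h1, h2⟩ := exists_biprod_iso a K hP hp e
  let w := ((tR).natTransTruncLTOfLE a (a + 1) (by omega)).app K
  have hι : w ≫ ((tR).truncLTι (a + 1)).app K = ((tR).truncLTι a).app K :=
    (tR).natTransTruncLTOfLE_ι_app a (a + 1) (by omega) K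
  haveI : IsIso w := by
    rw [DerivedCategory.isIso_iff]
    intro i
    haveI : ((tR).truncLT a).obj K |>.IsLE (a - 1) := (tR).isLE_truncLT_obj K a (a - 1)
    haveI : ((tR).truncLT (a + 1)).obj K |>.IsLE a := (tR).isLE_truncLT_obj K (a + 1) a
    by_cases hi : i < a
    · have hA : IsIso ((DerivedCategory.homologyFunctor (ModuleCat.{u} R) i).map (((tR).truncLTι a).app K)) := by
        obtain ⟨a', rfl⟩ : ∃ a', a = a' + 1 := ⟨a - 1, (sub_add_cancel a 1).symm⟩
        exact DerCat.isIso_homology_truncLEι K a' i (by omega)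
      haveI : IsIso ((DerivedCategory.homologyFunctor (ModuleCat.{u} R) i).map (((tR).truncLTι (a + 1)).app K)) :=
        DerCat.isIso_homology_truncLEι K a i (by omega)
      rw [← hι, Functor.map_comp] at hA
      exact IsIso.of_isIso_comp_right _
        ((DerivedCategory.homologyFunctor (ModuleCat.{u} R) i).map (((tR).truncLTι (a + 1)).app K))
    · refine isIso_of_source_target_iso_zero _
        (IsZero.isoZero (DerivedCategory.isZero_of_isLE (((tR).truncLT a).obj K) (a - 1) i (by omega)))
        (IsZero.isoZero ?_)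
      rcases (not_lt.1 hi).lt_or_eq with hi' | hi'
      · exact DerivedCategory.isZero_of_isLE (((tR).truncLT (a + 1)).obj K) a i hi'
      · subst hi'
        haveI : IsIso ((DerivedCategory.homologyFunctor (ModuleCat.{u} R) a).map (((tR).truncLTι (a + 1)).app K)) :=
          DerCat.isIso_homology_truncLEι K a a le_rfl
        exact ((isZero_HD_iff K a).2 ha).of_iso
          (asIso ((DerivedCategory.homologyFunctor (ModuleCat.{u} R) a).map (((tR).truncLTι (a + 1)).app K)))
  refine ⟨e' ≪≫ biprod.mapIso (asIso w).symm (Iso.refl _), ?_, ?_⟩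
  · rw [← hι, Category.assoc, Iso.trans_hom, reassoc_of% h1]
    simp
  · rw [Iso.trans_hom, Category.assoc]
    simpa using h2

end Groth.Agent.DRingAmp
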