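import Groth.Agent.DRingAmp.Nilpotent

/-!
# Perfectness from two surjections whose kernels multiply to zero
-/

universe u

open CategoryTheory Limits MonoidalCategory HomologicalComplex
open scoped TensorProduct

namespace Groth.Agent.DRingAmp

attribute [local instance] HasDerivedCategory.standard

set_option linter.style.haveILetI false

open Groth.Agent.DRingKFlat Groth.Agent.DRingTorAmp Groth.Agent.DRingKProj

variable {R : Type u} [CommRing R] {S : Type u} [CommRing S] {φ : R →+* S} (hφ : Function.Surjective φ)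

include hφ in
theorem exists_gens {E : DRing.Cx R} {n : ℤ}
    (hz : IsZero (E.X (n + 1))) [Module.Finite S (((escCx φ).obj E).sc' (n - 1) n (n + 1)).homology] :
    ∃ (k : ℕ) (x : Fin k → E.X n), (⊤ : Submodule R (E.X n)) ≤
      (Submodule.span R (Set.range x) ⊔ LinearMap.range (E.d (n - 1) n).hom) ⊔ RingHom.ker φ • ⊤ := by
  classical
  letI := φ.toAlgebra
  let T := E.sc' (n - 1) n (n + 1)
  let T' := ((escCx φ).obj E).sc' (n - 1) n (n + 1)
  have hg : ∀ x : T.X₂, T.g x = 0 := fun x => (ModuleCat.subsingleton_of_isZero hz).elim _ _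
  have hg' : ∀ x : T'.X₂, T'.g x = 0 := fun x =>
    (ModuleCat.subsingleton_of_isZero ((ModuleCat.extendScalars.{u, u, u} φ).map_isZero hz)).elim _ _
  have hlift : ∀ (X : Type u) [AddCommGroup X] [Module R X] (z : S ⊗[R] X), ∃ x : X, (1 : S) ⊗ₜ[R] x = z := by
    intro X _ _ z
    induction z with
    | zero => exact ⟨0, TensorProduct.tmul_zero _ _⟩
    | tmul s x =>
      obtain ⟨r, rfl⟩ := hφ s
      refine ⟨r • x, ?_⟩
      rw [← TensorProduct.smul_tmul]
      show (φ r * 1) ⊗ₜ[R] x = _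
      rw [mul_one]
    | add a b ha hb =>
      obtain ⟨a', rfl⟩ := ha
      obtain ⟨b', rfl⟩ := hb
      exact ⟨a' + b', TensorProduct.tmul_add _ _ _⟩
  have hker : ∀ y : E.X n, ((1 : S) ⊗ₜ[R] y : S ⊗[R] E.X n) = 0 →
      y ∈ (RingHom.ker φ • ⊤ : Submodule R (E.X n)) := by
    intro y hy
    let q : (R ⧸ (RingHom.ker φ : Ideal R)) ≃ₗ[R] S := LinearEquiv.ofBijective
      ((RingHom.ker φ).liftQ (Algebra.linearMap R S) (fun x hx => hx))
      ⟨LinearMap.ker_eq_bot.1 (Submodule.ker_liftQ_eq_bot _ _ _ le_rfl),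
        fun s => by obtain ⟨r, rfl⟩ := hφ s; exact ⟨Submodule.Quotient.mk r, rfl⟩⟩
    have h2 : TensorProduct.quotTensorEquivQuotSMul (E.X n) (RingHom.ker φ)
        (q.symm.toLinearMap.rTensor (E.X n) ((1 : S) ⊗ₜ[R] y)) = 0 := by
      rw [hy, map_zero, map_zero]
    have h3 : q.symm (1 : S) = Ideal.Quotient.mk (RingHom.ker φ) 1 := q.injective (by
      rw [LinearEquiv.apply_symm_apply]
      exact (map_one φ).symm)
    rw [LinearMap.rTensor_tmul, LinearEquiv.coe_coe, h3, TensorProduct.quotTensorEquivQuotSMul_mk_tmul,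
      one_smul] at h2
    exact (Submodule.Quotient.mk_eq_zero _).1 h2
  haveI : Module.Finite S T'.homology := ‹_›
  obtain ⟨k, gen, hgen⟩ := Module.Finite.exists_fin (R := S) (M := T'.homology)
  choose z hz₁ hz₂ using fun j => FlatComplex.cls_surjective (gen j)
  choose x hx using fun j => hlift (E.X n) (z j)
  let pS : LinearMap.ker T'.g.hom →ₗ[S] T'.homology := T'.homologyπ.hom ∘ₗ T'.moduleCatCyclesIso.inv.hom
  let N : Submodule R (E.X n) := Submodule.span R (Set.range x) ⊔ LinearMap.range (E.d (n - 1) n).hom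
  have hsup : (⊤ : Submodule R (E.X n)) ≤ N ⊔ RingHom.ker φ • ⊤ := by
    intro y _
    have hy : pS ⟨(1 : S) ⊗ₜ[R] y, hg' _⟩ ∈ Submodule.span S (Set.range gen) := hgen ▸ Submodule.mem_top
    rw [Submodule.mem_span_range_iff_exists_fun] at hy
    obtain ⟨c, hc⟩ := hy
    choose r hr using fun j => hφ (c j)
    have h1 : pS ⟨(1 : S) ⊗ₜ[R] (∑ j, r j • x j), hg' _⟩ = ∑ j, c j • gen j := by
      have : (⟨(1 : S) ⊗ₜ[R] (∑ j, r j • x j), hg' _⟩ : LinearMap.ker T'.g.hom) =
          ∑ j, c j • ⟨z j, hz₁ j⟩ := Subtype.ext (by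
        rw [Submodule.coe_sum]
        refine (TensorProduct.tmul_sum _ _ _).trans (Finset.sum_congr rfl fun j _ => ?_)
        show ((1 : S) ⊗ₜ[R] (r j • x j) : S ⊗[R] E.X n) = c j • z j
        rw [← hx j, ← hr j]
        show ((1 : S) ⊗ₜ[R] (r j • x j) : S ⊗[R] E.X n) = φ (r j) • ((1 : S) ⊗ₜ[R] x j)
        rw [← TensorProduct.smul_tmul, TensorProduct.smul_tmul']
        rfl)
      rw [this, map_sum]
      exact Finset.sum_congr rfl fun j _ => by rw [map_smul]; exact congrArg (c j • ·) (hz₂ j)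
    obtain ⟨w, hw⟩ := (FlatComplex.cls_eq_cls_iff _ _ (hg' _) (hg' _)).1 (hc.symm.trans h1.symm)
    obtain ⟨w', rfl⟩ := hlift (E.X (n - 1)) w
    have h0 := hker (y - ∑ j, r j • x j - E.d (n - 1) n w') (by
      rw [TensorProduct.tmul_sub, TensorProduct.tmul_sub, sub_eq_zero]
      exact hw)
    rw [show y = ((∑ j, r j • x j) + E.d (n - 1) n w') + (y - ∑ j, r j • x j - E.d (n - 1) n w') by abel]
    exact Submodule.add_mem _ (Submodule.mem_sup_left (Submodule.add_mem_sup
      (Submodule.sum_mem _ fun j _ => Submodule.smul_mem _ _ (Submodule.subset_span ⟨j, rfl⟩)) ⟨w', rfl⟩))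
      (Submodule.mem_sup_right h0)
  exact ⟨k, x, hsup⟩

section Two

variable {S' : Type u} [CommRing S'] {φ' : R →+* S'} (hφ' : Function.Surjective φ')
  (hmul : RingHom.ker φ' * RingHom.ker φ = ⊥)

include hφ hφ' hmul in
theorem exactAt_tensor_of_two {P : DRing.Cx R} (hflat : DRing.TermwiseFlat P) {i : ℤ}
    (h : ∀ N : ModuleCat.{u} S, (DRing.tensorCx ((escCx φ).obj P) N).ExactAt i)
    (h' : ∀ N : ModuleCat.{u} S', (DRing.tensorCx ((escCx φ').obj P) N).ExactAt i) (N : ModuleCat.{u} R) :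
    (DRing.tensorCx P N).ExactAt i := by
  let W : Submodule R N := RingHom.ker φ • ⊤
  obtain ⟨w, hW⟩ := DRingComplete.tenMap_shortExact hflat (ModuleCat.ofHom W.subtype) (ModuleCat.ofHom W.mkQ)
    W.injective_subtype (LinearMap.exact_subtype_mkQ W) W.mkQ_surjective
  have h₁ := exactAt_tensor_of_esc hφ' h' (ModuleCat.of R W) fun a ha x => Subtype.ext (by
    show a • x.1 = 0
    refine Submodule.smul_induction_on x.2 (fun r hr y _ => ?_) (fun y z hy hz => by rw [smul_add, hy, hz, add_zero])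
    rw [smul_smul]
    have h0 : a * r ∈ RingHom.ker φ' * RingHom.ker φ := Ideal.mul_mem_mul ha hr
    rw [hmul] at h0
    rw [show a * r = 0 from h0, zero_smul])
  have h₃ := exactAt_tensor_of_esc hφ h (ModuleCat.of R (N ⧸ W)) fun a ha x => by
    obtain ⟨x, rfl⟩ := W.mkQ_surjective x
    rw [← map_smul, Submodule.mkQ_apply, Submodule.Quotient.mk_eq_zero]
    exact Submodule.smul_mem_smul ha Submodule.mem_top
  rw [exactAt_iff_isZero_homology] at h₁ h₃ ⊢
  exact (hW.homology_exact₂ i).isZero_of_both_zeros (h₁.eq_of_src _ _) (h₃.eq_of_tgt _ _)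

include hφ hφ' hmul in
theorem finite_homology_of_two {E : DRing.Cx R} {n : ℤ} (hz : IsZero (E.X (n + 1)))
    [Module.Finite S (((escCx φ).obj E).sc' (n - 1) n (n + 1)).homology]
    [Module.Finite S' (((escCx φ').obj E).sc' (n - 1) n (n + 1)).homology] :
    Module.Finite R (E.sc' (n - 1) n (n + 1)).homology := by
  classical
  obtain ⟨k₁, x₁, h₁⟩ := exists_gens hφ (E := E) hz
  obtain ⟨k₂, x₂, h₂⟩ := exists_gens hφ' (E := E) hz
  let x := Sum.elim x₁ x₂
  let T := E.sc' (n - 1) n (n + 1)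
  have hg : ∀ y : T.X₂, T.g y = 0 := fun y => (ModuleCat.subsingleton_of_isZero hz).elim _ _
  let N : Submodule R (E.X n) := Submodule.span R (Set.range x) ⊔ LinearMap.range (E.d (n - 1) n).hom
  have hle₁ : Submodule.span R (Set.range x₁) ⊔ LinearMap.range (E.d (n - 1) n).hom ≤ N :=
    sup_le_sup (Submodule.span_mono (by rintro _ ⟨i, rfl⟩; exact ⟨Sum.inl i, rfl⟩)) le_rfl
  have hle₂ : Submodule.span R (Set.range x₂) ⊔ LinearMap.range (E.d (n - 1) n).hom ≤ N :=
    sup_le_sup (Submodule.span_mono (by rintro _ ⟨i, rfl⟩; exact ⟨Sum.inr i, rfl⟩)) le_rfl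
  have htop : N = ⊤ := by
    refine top_le_iff.1 (h₂.trans (sup_le hle₂ ?_))
    refine (Submodule.smul_mono le_rfl (h₁.trans (sup_le_sup hle₁ le_rfl))).trans ?_
    rw [Submodule.smul_sup, ← Submodule.smul_assoc, smul_eq_mul, hmul, Submodule.bot_smul, sup_bot_eq]
    exact Submodule.smul_le_right
  let p : E.X n →ₗ[R] T.homology :=
    T.homologyπ.hom ∘ₗ T.moduleCatCyclesIso.inv.hom ∘ₗ LinearMap.id.codRestrict (LinearMap.ker T.g.hom) hg
  refine ⟨⟨Finset.univ.image (p ∘ x), top_le_iff.1 fun h _ => ?_⟩⟩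
  obtain ⟨(y : E.X n), hy, rfl⟩ := FlatComplex.cls_surjective h
  have hyN : y ∈ N := htop ▸ Submodule.mem_top
  obtain ⟨(a : E.X n), ha, _, ⟨b, rfl⟩, rfl⟩ := Submodule.mem_sup.1 hyN
  have hcls : FlatComplex.cls T (a + E.d (n - 1) n b : E.X n) hy = p a :=
    (FlatComplex.cls_eq_cls_iff _ _ hy (hg a)).2 ⟨b, add_sub_cancel_left _ _⟩
  rw [hcls, Finset.coe_image, Finset.coe_univ, Set.image_univ, Set.range_comp, ← Submodule.map_span]
  exact ⟨a, ha, rfl⟩

theorem finite_top_homology {φ : R →+* S} {C : DRing.Cx R} {n b : ℤ} {P₀ F E : DRing.Cx R} {f : F ⟶ P₀}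
    (hF : DRing.VanishesOutside F (n + 1) b) (hFf : DRing.TermwiseFiniteFree F)
    (π : E ⟶ CochainComplex.mappingCone f) [IsIso (DerivedCategory.Q.map ((escCx φ).map π))]
    (hEb : ∀ i, n < i → IsZero (E.X i))
    (hpc₀ : DRing.IsPseudoCoherent S n (DRing.toD ((escCx φ).obj P₀))) :
    Module.Finite S (((escCx φ).obj E).sc' (n - 1) n (n + 1)).homology := by
  have hpc : DRing.IsPseudoCoherent S n (DRing.toD ((escCx φ).obj E)) := by
    refine isPseudoCoherent_of_iso ?_ (isPseudoCoherent_obj₃ _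
      (DerivedCategory.mappingCone_triangle_distinguished ((escCx φ).map f)) n
      (isPseudoCoherent_toD (esc_outside φ hF) (termwiseFiniteFree_map_extendScalars φ hFf) _) hpc₀)
    exact DerivedCategory.Q.mapIso (CochainComplex.mappingCone.mapHomologicalComplexIso f _).symm ≪≫
      (asIso (DerivedCategory.Q.map ((escCx φ).map π))).symm
  have hEex : ∀ i, n < i → ((escCx φ).obj E).ExactAt i := fun i hi =>
    ShortComplex.exact_of_isZero_X₂ _ ((ModuleCat.extendScalars.{u, u, u} φ).map_isZero (hEb i hi))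
  haveI : Module.Finite S ((DerivedCategory.Q ⋙ DerivedCategory.homologyFunctor (ModuleCat.{u} S) n).obj
      ((escCx φ).obj E)) :=
    (finite_homology hpc).1 fun j hj => (vanishGE_Q_iff (n + 1) _).2 (fun l hl => hEex l (by omega)) j (by omega)
  exact Module.Finite.equiv ((DerivedCategory.homologyFunctorFactors (ModuleCat.{u} S) n).app _ ≪≫
    ((escCx φ).obj E).homologyIsoSc' (n - 1) n (n + 1) (by simp) (by simp)).toLinearEquiv

include hφ hφ' hmul in
theorem isPerfect_of_two {P : DRing.Cx R} (hP : IsKFl P) (hflat : DRing.TermwiseFlat P)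
    (h : DRing.IsPerfect S (DRing.toD ((escCx φ).obj P)))
    (h' : DRing.IsPerfect S' (DRing.toD ((escCx φ').obj P))) :
    DRing.IsPerfect R (DRing.toD P) := by
  rw [DRingTorAmp.isPerfect_iff] at h h' ⊢
  obtain ⟨hpc, a, b, hab⟩ := h
  obtain ⟨hpc', a', b', hab'⟩ := h'
  have hex : ∀ (M : ModuleCat.{u} R) (i : ℤ), i < min a a' ∨ max b b' < i → (DRing.tensorCx P M).ExactAt i :=
    fun M i hi => exactAt_tensor_of_two hφ hφ' hmul hflat
      (fun N => exactAt_of_hasTorAmplitudeIn hab (DCohBridge.isKFlat_baseChange φ hP) (Iso.refl _) N i (by omega))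
      (fun N => exactAt_of_hasTorAmplitudeIn hab' (DCohBridge.isKFlat_baseChange φ' hP) (Iso.refl _) N i (by omega)) M
  refine ⟨?_, _, _, hasTorAmplitudeIn_of_exact hP (Iso.refl _) hex⟩
  refine pseudoCoherent'_of_forall fun m => ?_
  let c := max (max b b') m
  have hexP : ∀ i, c < i → P.ExactAt i := fun i hi =>
    (exactAt_tensor_unit_iff P i).1 (hex _ i (Or.inr (by omega)))
  refine isPseudoCoherent_of_coneFinite (b := c) hexP (by omega) fun n F f hmn _ hFo hFf hC => ?_
  let C := CochainComplex.mappingCone f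
  have hFflat : DRing.TermwiseFlat F := fun i => haveI := (hFf i).2; inferInstance
  have hCK : IsKFl C := isKFlat_cone f (isKFl_of_flat (fun i hi => hFo i (Or.inr hi)) hFflat) hP
  obtain ⟨E, π, hE, hπ, hfree, hEb⟩ := exists_resolution_of_exactAt (K := C) (S := fun i => i ≤ n)
    (fun i hi => hC i (by omega)) (fun i hi => by omega)
  haveI := hE
  haveI := hπ
  have hq := quasiIso_map (ModuleCat.extendScalars.{u, u, u} φ) (fun _ h hac => acyclic_baseChange φ h hac)
    (isKFl_of_isKProjective E) hCK π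
  have hq' := quasiIso_map (ModuleCat.extendScalars.{u, u, u} φ') (fun _ h hac => acyclic_baseChange φ' h hac)
    (isKFl_of_isKProjective E) hCK π
  haveI : IsIso (DerivedCategory.Q.map ((escCx φ).map π)) := (DerivedCategory.isIso_Q_map_iff_quasiIso _ _).2 hq
  haveI : IsIso (DerivedCategory.Q.map ((escCx φ').map π)) := (DerivedCategory.isIso_Q_map_iff_quasiIso _ _).2 hq'
  haveI := finite_top_homology (φ := φ) (C := C) hFo hFf π (fun i hi => hEb i (by omega))
    (isPseudoCoherent_mono hmn (isPseudoCoherent_of_pseudoCoherent' hpc m))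
  haveI := finite_top_homology (φ := φ') (C := C) hFo hFf π (fun i hi => hEb i (by omega))
    (isPseudoCoherent_mono hmn (isPseudoCoherent_of_pseudoCoherent' hpc' m))
  haveI := finite_homology_of_two hφ hφ' hmul (E := E) (n := n) (hEb _ (by omega))
  exact Module.Finite.equiv ((E.homologyIsoSc' (n - 1) n (n + 1) (by simp) (by simp)).symm ≪≫
    asIso (HomologicalComplex.homologyMap π n)).toLinearEquiv

end Two

theorem isPerfect_lBaseChange_quotient_mul (A : Type u) [CommRing A] (I J : Ideal A)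
    [DRing.HasLBaseChange (Ideal.Quotient.mk I)] [DRing.HasLBaseChange (Ideal.Quotient.mk J)]
    [DRing.HasLBaseChange (Ideal.Quotient.mk (I * J))] (K : Dual.D A)
    (hI : DRing.IsPerfect (A ⧸ I) ((DRing.LBaseChange (Ideal.Quotient.mk I)).obj K))
    (hJ : DRing.IsPerfect (A ⧸ J) ((DRing.LBaseChange (Ideal.Quotient.mk J)).obj K)) :
    DRing.IsPerfect (A ⧸ (I * J)) ((DRing.LBaseChange (Ideal.Quotient.mk (I * J))).obj K) := by
  obtain ⟨P₀, hP₀, hflat₀, ⟨e₀⟩⟩ := DRingComplete.exists_flat_rep K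
  let ψ := Ideal.Quotient.mk (I * J)
  let a : (A ⧸ I * J) →+* A ⧸ I := Ideal.Quotient.factor (Ideal.mul_le_left : I * J ≤ I)
  let b : (A ⧸ I * J) →+* A ⧸ J := Ideal.Quotient.factor (Ideal.mul_le_right : I * J ≤ J)
  have hker : ∀ (L : Ideal A) (hL : I * J ≤ L), RingHom.ker (Ideal.Quotient.factor hL) = L.map ψ := fun L hL =>
    Ideal.Quotient.factor_ker hL
  have hmul : RingHom.ker b * RingHom.ker a = ⊥ := by
    rw [hker, hker, ← Ideal.map_mul, Ideal.map_eq_bot_iff_le_ker, Ideal.mk_ker, mul_comm]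
  have key : ∀ {T : Type u} [CommRing T] (χ : A →+* T) (c : (A ⧸ I * J) →+* T) (_ : χ = c.comp ψ)
      [DRing.HasLBaseChange χ], DRing.IsPerfect T ((DRing.LBaseChange χ).obj K) →
      DRing.IsPerfect T (DRing.toD ((escCx c).obj ((escCx ψ).obj P₀))) := by
    intro T _ χ c hχ _ h
    subst hχ
    obtain ⟨e'⟩ := exists_lBaseChange_iso (c.comp ψ) hP₀
    obtain ⟨E, l, u', hE, hF, ⟨e⟩⟩ := h
    exact ⟨E, l, u', hE, hF, ⟨e ≪≫ ((DRing.LBaseChange (c.comp ψ)).mapIso e₀.symm ≪≫ e') ≪≫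
      DerivedCategory.Q.mapIso ((NatIso.mapHomologicalComplex
        (ModuleCat.extendScalarsComp.{u} ψ c) (ComplexShape.up ℤ)).app P₀)⟩⟩
  obtain ⟨e'⟩ := exists_lBaseChange_iso ψ hP₀
  obtain ⟨E, l, u', hE, hF, ⟨e⟩⟩ := isPerfect_of_two (φ := a) (φ' := b)
    (Ideal.Quotient.factor_surjective _) (Ideal.Quotient.factor_surjective _) hmul
    (DCohBridge.isKFlat_baseChange ψ hP₀) (esc_flat ψ hflat₀)
    (key _ a (Ideal.Quotient.factor_comp_mk _).symm hI) (key _ b (Ideal.Quotient.factor_comp_mk _).symm hJ)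
  exact ⟨E, l, u', hE, hF, ⟨e ≪≫ e'.symm ≪≫ (DRing.LBaseChange ψ).mapIso e₀⟩⟩

end Groth.Agent.DRingAmp
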